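import Cfsg.Agent.H353.TwoLong

/-!
# Pairs of long root elements in a 2-transitive group of prime power degree (helper59)

`A : AS G Ω T`, `|Ω| = p ^ a`, `X = Z(U)` for a Sylow `p`-subgroup `U` of `T`, `CC X` the set of the nontrivial elements of
the conjugates of `X`, `n = |Ω|`, `N = |CC X|`.

* `fpf` : the elements of `CC X` have no fixed point;
* `dvd_CC` : `n - 1 ∣ N`;
* `sum_le` : `(n - 1) ∑_{c ∈ S} fix (x⁻¹ c) ≤ n (N - (n - 1))` for `S ⊆ CC X \ {x}`, `x ∈ CC X`;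
* `conj_le` : `(n - 1) |Y| fix (x⁻¹ c) ≤ n (N - (n - 1))` if `Y` centralizes `x` and no nontrivial element of `Y` centralizes
  `c`;
* `main` : the same with a lower bound for `fix (x⁻¹ c)`.
-/

set_option autoImplicit false

namespace Cfsg.Agent.H59.Sig

open MulAction Cfsg.Agent.H384.TwoTrans Cfsg.Agent.H221.ClassCount Cfsg.Agent.H353.TwoLong
open scoped Pointwise

universe u v

/-- the nontrivial elements of the conjugates of `X` -/
def CC {T : Type*} [Group T] (X : Subgroup T) : Set T := {x : T | x ≠ 1 ∧ ∃ g : T, x ∈ cj g X}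

theorem mem_CC {T : Type*} [Group T] {X : Subgroup T} {x : T} : x ∈ CC X ↔ x ≠ 1 ∧ ∃ g : T, x ∈ cj g X := Iff.rfl

theorem CC_conj {T : Type*} [Group T] {X : Subgroup T} {x : T} (hx : x ∈ CC X) (g : T) : g * x * g⁻¹ ∈ CC X := by
  obtain ⟨h1, h, hx⟩ := hx
  refine ⟨?_, g * h, ?_⟩
  · intro h2
    apply h1
    have : x = g⁻¹ * (g * x * g⁻¹) * g := by group
    rw [this, h2]; group
  · rw [mem_cj] at hx ⊢
    have : (g * h)⁻¹ * (g * x * g⁻¹) * (g * h) = h⁻¹ * x * h := by group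
    rwa [this]

/-- `X` is the centre of a Sylow `p`-subgroup -/
def IsZ (p : ℕ) {T : Type*} [Group T] (X : Subgroup T) : Prop :=
  ∃ U : Sylow p T, ∀ x, x ∈ X ↔ x ∈ U ∧ ∀ u ∈ U, x * u = u * x

/-- `X` is contained in the centre of a Sylow `p`-subgroup -/
def LeZ (p : ℕ) {T : Type*} [Group T] (X : Subgroup T) : Prop :=
  ∃ U : Sylow p T, ∀ x ∈ X, x ∈ U ∧ ∀ u ∈ U, x * u = u * x

theorem IsZ.le {p : ℕ} {T : Type*} [Group T] {X : Subgroup T} (h : IsZ p X) : LeZ p X := by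
  obtain ⟨U, hU⟩ := h
  exact ⟨U, fun x hx => (hU x).1 hx⟩

section

variable {G : Type u} {Ω : Type v} [Group G] [MulAction G Ω] {T : Subgroup G}

/-- a Sylow `p`-subgroup is transitive if the degree is a power of `p` -/
theorem sylow_trans (A : AS G Ω T) {p : ℕ} (hp : p.Prime) {k : ℕ} (hn : Nat.card Ω = p ^ k) (U : Sylow p T)
    (a b : Ω) : ∃ g ∈ U, g • a = b := by
  have := A.finT
  have := A.finΩ
  have : Fact p.Prime := ⟨hp⟩
  have h1 := card_orbit_mul (A := (U : Subgroup T)) a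
  have h2 : Nat.card U = p ^ (Nat.card T).factorization p := U.card_eq_multiplicity
  have h3 : Nat.card ↥((U : Subgroup T) ⊓ stabilizer T a) ∣ Nat.card (U : Subgroup T) :=
    Subgroup.card_dvd_of_le inf_le_left
  have h4 : Nat.card ↥((U : Subgroup T) ⊓ stabilizer T a) ∣ Nat.card (stabilizer T a) :=
    Subgroup.card_dvd_of_le inf_le_right
  have h5 : Nat.card (U : Subgroup T) = p ^ (Nat.card T).factorization p := h2
  rw [h5] at h3 h1
  obtain ⟨j, hj, hj'⟩ := (Nat.dvd_prime_pow hp).1 h3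
  rw [hj'] at h4 h1
  have h6 := A.card_mul a
  rw [hn] at h6
  have h7 : p ^ (k + j) ∣ Nat.card T := by
    rw [← h6, pow_add]
    exact Nat.mul_dvd_mul_left _ h4
  have h8 : k + j ≤ (Nat.card T).factorization p :=
    (hp.pow_dvd_iff_le_factorization Nat.card_pos.ne').1 h7
  have h9 : p ^ k ≤ (orbit (U : Subgroup T) a).ncard := by
    have h10 : p ^ k * p ^ j ≤ (orbit (U : Subgroup T) a).ncard * p ^ j := by
      rw [h1, ← pow_add]
      exact Nat.pow_le_pow_right hp.pos h8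
    exact Nat.le_of_mul_le_mul_right h10 (Nat.pow_pos hp.pos)
  have h11 : orbit (U : Subgroup T) a = Set.univ := by
    apply Set.eq_of_subset_of_ncard_le (Set.subset_univ _) _ (Set.toFinite _)
    rw [Set.ncard_univ, hn]
    exact h9
  have h12 : b ∈ orbit (U : Subgroup T) a := by rw [h11]; trivial
  obtain ⟨g, hg⟩ := h12
  exact ⟨g, g.2, hg⟩

/-- the elements of `CC X` have no fixed point -/
theorem fpf (A : AS G Ω T) {p : ℕ} (hp : p.Prime) {k : ℕ} (hn : Nat.card Ω = p ^ k) {X : Subgroup T} (hX : LeZ p X)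
    {x : T} (hx : x ∈ CC X) (a : Ω) : x • a ≠ a := by
  intro hxa
  obtain ⟨hx1, g, hg⟩ := hx
  obtain ⟨U, hU⟩ := hX
  rw [mem_cj] at hg
  obtain ⟨h1, h2⟩ := hU _ hg
  apply hx1
  have h3 : g⁻¹ * x * g = 1 := by
    have := A.faithfulT
    apply FaithfulSMul.eq_of_smul_eq_smul (α := Ω)
    intro b
    obtain ⟨u, hu, rfl⟩ := sylow_trans A hp hn U (g⁻¹ • a) b
    rw [← mul_smul, h2 u hu, mul_smul, one_smul]
    congr 1
    rw [mul_smul, mul_smul, smul_inv_smul, hxa]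
  have : x = g * (g⁻¹ * x * g) * g⁻¹ := by group
  rw [this, h3]; group

/-- the image of `CC X` in `G` is invariant -/
theorem inv_CC (A : AS G Ω T) {p : ℕ} (hp : p.Prime) {X : Subgroup T} (hX : IsZ p X) :
    Cfsg.Agent.H221.ClassCount.Inv ((fun x : T => (x : G)) '' CC X) := by
  have hfT := A.finT
  have hNor := A.normal
  have : Fact p.Prime := ⟨hp⟩
  rintro g _ ⟨x, ⟨hx1, h, hx⟩, rfl⟩
  obtain ⟨U, hU⟩ := hX
  set σ : MulAut T := MulAut.conjNormal g with hσ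
  obtain ⟨t, ht⟩ := MulAction.exists_smul_eq T U (σ • U)
  have hσU : ∀ y : T, y ∈ U ↔ σ y ∈ (σ • U : Sylow p T) := by
    intro y
    have h1 : σ • y ∈ σ • (U : Subgroup T) ↔ y ∈ (U : Subgroup T) := Subgroup.smul_mem_pointwise_smul_iff
    exact h1.symm
  have htU : ∀ y : T, y ∈ U ↔ t * y * t⁻¹ ∈ (σ • U : Sylow p T) := by
    intro y
    rw [← ht]
    have h1 : MulAut.conj t • y ∈ MulAut.conj t • (U : Subgroup T) ↔ y ∈ (U : Subgroup T) :=
      Subgroup.smul_mem_pointwise_smul_iff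
    exact h1.symm
  have key : ∀ y ∈ X, σ y ∈ cj t X := by
    intro y hy
    rw [mem_cj, hU]
    obtain ⟨hy1, hy2⟩ := (hU y).1 hy
    have e : t * (t⁻¹ * σ y * t) * t⁻¹ = σ y := by group
    refine ⟨(htU _).2 (by rw [e]; exact (hσU y).1 hy1), fun u hu => ?_⟩
    have h1 : t * u * t⁻¹ ∈ (σ • U : Sylow p T) := (htU u).1 hu
    obtain ⟨w, hw⟩ := σ.surjective (t * u * t⁻¹)
    have h2 : w ∈ U := (hσU w).2 (by rw [hw]; exact h1)
    have h3 : σ y * (t * u * t⁻¹) = (t * u * t⁻¹) * σ y := by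
      rw [← hw, ← map_mul, ← map_mul, hy2 w h2]
    have h4 : t⁻¹ * (σ y * (t * u * t⁻¹)) * t = t⁻¹ * ((t * u * t⁻¹) * σ y) * t := by rw [h3]
    have h5 : t⁻¹ * (σ y * (t * u * t⁻¹)) * t = t⁻¹ * σ y * t * u := by group
    have h6 : t⁻¹ * ((t * u * t⁻¹) * σ y) * t = u * (t⁻¹ * σ y * t) := by group
    rw [h5, h6] at h4
    exact h4
  refine ⟨σ x, ⟨?_, σ h * t, ?_⟩, ?_⟩
  · intro hcon
    exact hx1 ((MulEquiv.map_eq_one_iff σ).1 hcon)
  · rw [mem_cj] at hx ⊢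
    have h7 := key _ hx
    rw [mem_cj] at h7
    have e : (σ h * t)⁻¹ * σ x * (σ h * t) = t⁻¹ * σ (h⁻¹ * x * h) * t := by
      simp only [map_mul, map_inv]; group
    rw [e]
    exact h7
  · rw [hσ]
    exact MulAut.conjNormal_apply g x

theorem ncard_image (C : Set T) : ((fun x : T => (x : G)) '' C).ncard = C.ncard :=
  Set.ncard_image_of_injective _ Subtype.val_injective

theorem ncard_image_move (C : Set T) (a b : Ω) :
    {y ∈ ((fun x : T => (x : G)) '' C) | y • a = b}.ncard = {y ∈ C | y • a = b}.ncard := by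
  rw [← ncard_image (G := G) {y ∈ C | y • a = b}]
  congr 1
  ext y
  constructor
  · rintro ⟨⟨x, hx, rfl⟩, h⟩
    exact ⟨x, ⟨hx, h⟩, rfl⟩
  · rintro ⟨x, ⟨hx, h⟩, rfl⟩
    exact ⟨⟨x, hx, rfl⟩, h⟩

/-- the invariance of a subset of `T` under `G` -/
def InvT (T : Subgroup G) (C : Set T) : Prop := Cfsg.Agent.H221.ClassCount.Inv ((fun x : T => (x : G)) '' C)

/-- `|C| = (n - 1) #{c ∈ C : c a = b}` for a set of elements without fixed point -/
theorem card_eq_mul (A : AS G Ω T) {C : Set T} (hC : InvT T C) (hf : ∀ x ∈ C, ∀ a : Ω, x • a ≠ a) {a b : Ω}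
    (hab : a ≠ b) : C.ncard = (Nat.card Ω - 1) * {y ∈ C | y • a = b}.ncard := by
  have := A.finG
  have := A.finΩ
  have h1 := ncard_eq A.two hC a hab
  rw [ncard_image, ncard_image_move, ncard_image_move] at h1
  have h2 : {y ∈ C | y • a = a}.ncard = 0 := by
    have := A.finT
    rw [Set.ncard_eq_zero (Set.toFinite _), Set.eq_empty_iff_forall_notMem]
    rintro y ⟨hy, hya⟩
    exact hf y hy a hya
  rw [h2, zero_add] at h1
  exact h1

theorem dvd_card' (A : AS G Ω T) {C : Set T} (hC : InvT T C) (hf : ∀ x ∈ C, ∀ a : Ω, x • a ≠ a) :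
    (Nat.card Ω - 1) ∣ C.ncard := by
  have := A.nontrivialΩ
  obtain ⟨a, b, hab⟩ := exists_pair_ne Ω
  exact ⟨_, card_eq_mul A hC hf hab⟩

open Classical in
/-- **the sum formula** (inequality) -/
theorem sum_le (A : AS G Ω T) {C : Set T} (hC : InvT T C) (hf : ∀ x ∈ C, ∀ a : Ω, x • a ≠ a) {x : T}
    (hx : x ∈ C) (S : Finset T) (hS : ∀ c ∈ S, c ∈ C ∧ c ≠ x) :
    (Nat.card Ω - 1) * ∑ c ∈ S, (fixedBy Ω (x⁻¹ * c)).ncard ≤ Nat.card Ω * (C.ncard - (Nat.card Ω - 1)) := by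
  have := A.finT
  have := A.finΩ
  have := Fintype.ofFinite Ω
  have h1 : ∀ c ∈ S, (fixedBy Ω (x⁻¹ * c)).ncard = ∑ a : Ω, if c • a = x • a then 1 else 0 := by
    intro c _
    rw [Set.ncard_eq_toFinset_card _ (Set.toFinite _), Finset.sum_ite, Finset.sum_const_zero, add_zero,
      Finset.sum_const, smul_eq_mul, mul_one]
    congr 1
    ext a
    simp only [Set.Finite.mem_toFinset, mem_fixedBy, Finset.mem_filter, Finset.mem_univ, true_and]
    rw [mul_smul, inv_smul_eq_iff]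
  rw [Finset.sum_congr rfl h1, Finset.sum_comm, Finset.mul_sum]
  have h2 : ∀ a : Ω, (Nat.card Ω - 1) * (∑ c ∈ S, if c • a = x • a then 1 else 0) ≤
      C.ncard - (Nat.card Ω - 1) := by
    intro a
    have h3 := card_eq_mul A hC hf (a := a) (b := x • a) (hf x hx a).symm
    have h4 : (∑ c ∈ S, if c • a = x • a then 1 else 0) + 1 ≤ {y ∈ C | y • a = x • a}.ncard := by
      rw [Finset.sum_ite, Finset.sum_const_zero, add_zero, Finset.sum_const, smul_eq_mul, mul_one,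
        Set.ncard_eq_toFinset_card _ (Set.toFinite _)]
      have h5 : insert x (S.filter fun c => c • a = x • a) ⊆ (Set.toFinite {y ∈ C | y • a = x • a}).toFinset := by
        intro c hc
        rw [Finset.mem_insert, Finset.mem_filter] at hc
        rw [Set.Finite.mem_toFinset]
        rcases hc with rfl | ⟨h6, h7⟩
        · exact ⟨hx, rfl⟩
        · exact ⟨(hS c h6).1, h7⟩
      have h6 := Finset.card_le_card h5
      rw [Finset.card_insert_of_notMem (by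
        rw [Finset.mem_filter]
        rintro ⟨h7, -⟩
        exact (hS x h7).2 rfl)] at h6
      exact h6
    set s := ∑ c ∈ S, if c • a = x • a then 1 else 0 with hs
    rw [h3]
    have h5 : (Nat.card Ω - 1) * (s + 1) ≤ (Nat.card Ω - 1) * {y ∈ C | y • a = x • a}.ncard :=
      Nat.mul_le_mul_left _ h4
    rw [mul_add, mul_one] at h5
    omega
  calc ∑ a : Ω, (Nat.card Ω - 1) * (∑ c ∈ S, if c • a = x • a then 1 else 0) ≤
      ∑ a : Ω, (C.ncard - (Nat.card Ω - 1)) := Finset.sum_le_sum fun a _ => h2 a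
    _ = Nat.card Ω * (C.ncard - (Nat.card Ω - 1)) := by
      rw [Finset.sum_const, Finset.card_univ, smul_eq_mul, Nat.card_eq_fintype_card]

theorem fix_conj' (x g : T) : (fixedBy Ω (g * x * g⁻¹)).ncard = (fixedBy Ω x).ncard := by
  have : fixedBy Ω (g * x * g⁻¹) = (fun a => g • a) '' fixedBy Ω x := by
    ext a
    simp only [mem_fixedBy, Set.mem_image]
    constructor
    · intro ha
      refine ⟨g⁻¹ • a, ?_, smul_inv_smul g a⟩
      rw [mul_smul, mul_smul] at ha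
      rw [← inv_smul_eq_iff.2 ha.symm]
    · rintro ⟨b, hb, rfl⟩
      simp only [mul_smul, inv_smul_smul, hb]
  rw [this, Set.ncard_image_of_injective _ (MulAction.injective g)]

open Classical in
/-- the conjugates of `c` under `Y` -/
noncomputable def orb [Finite T] (Y : Subgroup T) (c : T) : Finset T :=
  (Set.toFinite ((fun y : Y => (y : T) * c * (y : T)⁻¹) '' Set.univ)).toFinset

theorem mem_orb [Finite T] {Y : Subgroup T} {c d : T} : d ∈ orb Y c ↔ ∃ y ∈ Y, y * c * y⁻¹ = d := by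
  unfold orb
  rw [Set.Finite.mem_toFinset]
  constructor
  · rintro ⟨y, -, rfl⟩
    exact ⟨y, y.2, rfl⟩
  · rintro ⟨y, hy, rfl⟩
    exact ⟨⟨y, hy⟩, trivial, rfl⟩

theorem card_orb [Finite T] {Y : Subgroup T} {c : T} (hY : ∀ y ∈ Y, y * c = c * y → y = 1) :
    (orb Y c).card = Nat.card Y := by
  unfold orb
  rw [← Set.ncard_eq_toFinset_card, Set.ncard_image_of_injective, Set.ncard_univ]
  intro y z h
  have h1 : (y : T) * c * (y : T)⁻¹ = (z : T) * c * (z : T)⁻¹ := h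
  have h2 : ((z⁻¹ * y : Y) : T) = 1 := by
    refine hY _ (z⁻¹ * y).2 ?_
    rw [Subgroup.coe_mul, Subgroup.coe_inv]
    have h3 : (z : T)⁻¹ * ((y : T) * c * (y : T)⁻¹) * y = (z : T)⁻¹ * ((z : T) * c * (z : T)⁻¹) * y := by rw [h1]
    have h4 : (z : T)⁻¹ * ((y : T) * c * (y : T)⁻¹) * y = (z : T)⁻¹ * y * c := by group
    have h5 : (z : T)⁻¹ * ((z : T) * c * (z : T)⁻¹) * y = c * ((z : T)⁻¹ * y) := by group
    rw [h4, h5] at h3
    exact h3
  have h3 : z⁻¹ * y = 1 := Subtype.ext h2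
  exact (inv_mul_eq_one.1 h3).symm

theorem sum_orb [Finite T] {Y : Subgroup T} {x c : T} (hYx : ∀ y ∈ Y, y * x = x * y) :
    ∑ d ∈ orb Y c, (fixedBy Ω (x⁻¹ * d)).ncard = (orb Y c).card * (fixedBy Ω (x⁻¹ * c)).ncard := by
  rw [Finset.sum_congr rfl (g := fun _ => (fixedBy Ω (x⁻¹ * c)).ncard), Finset.sum_const, smul_eq_mul]
  intro d hd
  obtain ⟨y, hy, rfl⟩ := mem_orb.1 hd
  have h1 : x⁻¹ * (y * c * y⁻¹) = y * (x⁻¹ * c) * y⁻¹ := by
    have h2 : x⁻¹ * y = y * x⁻¹ := by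
      rw [inv_mul_eq_iff_eq_mul, ← mul_assoc, ← hYx y hy, mul_inv_cancel_right]
    rw [← mul_assoc, ← mul_assoc, h2]; group
  rw [h1, fix_conj']

open Classical in
/-- the inequality for one orbit -/
theorem conj_le (A : AS G Ω T) {C : Set T} (hC : InvT T C) (hf : ∀ x ∈ C, ∀ a : Ω, x • a ≠ a)
    (hCT : ∀ x ∈ C, ∀ g : T, g * x * g⁻¹ ∈ C) {x c : T} (hx : x ∈ C) (hc : c ∈ C) (hxc : c ≠ x) {Y : Subgroup T}
    (hYx : ∀ y ∈ Y, y * x = x * y) (hYc : ∀ y ∈ Y, y * c = c * y → y = 1) :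
    (Nat.card Ω - 1) * (Nat.card Y * (fixedBy Ω (x⁻¹ * c)).ncard) ≤ Nat.card Ω * (C.ncard - (Nat.card Ω - 1)) := by
  have := A.finT
  have h1 := sum_le A hC hf hx (orb Y c) (by
    intro d hd
    obtain ⟨y, hy, rfl⟩ := mem_orb.1 hd
    refine ⟨hCT c hc y, fun h => hxc ?_⟩
    have h2 : c = y⁻¹ * (y * c * y⁻¹) * y := by group
    rw [h2, h, mul_assoc, ← hYx y hy, inv_mul_cancel_left])
  rw [sum_orb hYx, card_orb hYc] at h1
  exact h1

/-- an element whose order is a power of a prime `r ≠ p` has a fixed point -/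
theorem exists_fix (A : AS G Ω T) {p : ℕ} (hp : p.Prime) {k : ℕ} (hn : Nat.card Ω = p ^ k) {r j : ℕ} (hr : r.Prime)
    (hrp : r ≠ p) {s : T} (hs : s ^ r ^ j = 1) : (fixedBy Ω s).Nonempty := by
  have := A.finΩ
  have := A.finT
  have : Fact r.Prime := ⟨hr⟩
  have hP : IsPGroup r (Subgroup.zpowers s) := by
    rw [IsPGroup.iff_orderOf]
    rintro ⟨y, hy⟩
    obtain ⟨i, rfl⟩ := Subgroup.mem_zpowers_iff.1 hy
    have h1 : orderOf (⟨s ^ i, hy⟩ : Subgroup.zpowers s) ∣ r ^ j := by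
      rw [orderOf_dvd_iff_pow_eq_one]
      apply Subtype.ext
      show (s ^ i) ^ r ^ j = 1
      rw [← zpow_natCast, ← zpow_mul, mul_comm, zpow_mul, zpow_natCast, hs, one_zpow]
    obtain ⟨m, -, hm⟩ := (Nat.dvd_prime_pow hr).1 h1
    exact ⟨m, hm⟩
  have h1 : ¬ r ∣ Nat.card Ω := by
    rw [hn]
    intro h
    exact hrp ((Nat.prime_dvd_prime_iff_eq hr hp).1 (hr.dvd_of_dvd_pow h))
  obtain ⟨a, ha⟩ := hP.nonempty_fixed_point_of_prime_not_dvd_card Ω h1
  exact ⟨a, ha ⟨s, Subgroup.mem_zpowers s⟩⟩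

/-- a lower bound for the number of fixed points -/
theorem fix_ge (A : AS G Ω T) {s : T} (hs : (fixedBy Ω s).Nonempty) {Q : Subgroup T} (hQ : ∀ g ∈ Q, g * s = s * g)
    {B : ℕ} (hB : ∀ a : Ω, s • a = a → B * Nat.card ↥(Q ⊓ stabilizer T a) ≤ Nat.card Q) :
    B ≤ (fixedBy Ω s).ncard := by
  have := A.finT
  have := A.finΩ
  obtain ⟨a, ha⟩ := hs
  have h1 : orbit Q a ⊆ fixedBy Ω s := by
    rintro _ ⟨g, rfl⟩
    show s • (g : T) • a = (g : T) • a
    rw [← mul_smul, ← hQ g g.2, mul_smul]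
    congr 1
  have h2 := card_orbit_mul (A := Q) a
  have h3 : B ≤ (orbit Q a).ncard := by
    have h4 := hB a ha
    rw [← h2] at h4
    exact Nat.le_of_mul_le_mul_right h4 Nat.card_pos
  exact h3.trans (Set.ncard_le_ncard h1 (Set.toFinite _))

/-- **Main inequality.** -/
theorem main (A : AS G Ω T) {p : ℕ} (hp : p.Prime) {k : ℕ} (hn : Nat.card Ω = p ^ k) {C : Set T} (hC : InvT T C)
    (hf : ∀ x ∈ C, ∀ a : Ω, x • a ≠ a) (hCT : ∀ x ∈ C, ∀ g : T, g * x * g⁻¹ ∈ C) {x c : T} (hx : x ∈ C) (hc : c ∈ C)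
    (hxc : c ≠ x) {Y : Subgroup T} (hYx : ∀ y ∈ Y, y * x = x * y) (hYc : ∀ y ∈ Y, y * c = c * y → y = 1)
    {r j : ℕ} (hr : r.Prime) (hrp : r ≠ p) (hs : (x⁻¹ * c) ^ r ^ j = 1) {Q : Subgroup T}
    (hQ : ∀ g ∈ Q, g * (x⁻¹ * c) = (x⁻¹ * c) * g) {B : ℕ}
    (hB : ∀ a : Ω, B * Nat.card ↥(Q ⊓ stabilizer T a) ≤ Nat.card Q) :
    (Nat.card Ω - 1) * (Nat.card Y * B) ≤ Nat.card Ω * (C.ncard - (Nat.card Ω - 1)) :=
  (Nat.mul_le_mul_left _ (Nat.mul_le_mul_left _ (fix_ge A (exists_fix A hp hn hr hrp hs) hQ fun a _ => hB a))).trans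
    (conj_le A hC hf hCT hx hc hxc hYx hYc)

/-- **Main inequality**, long root form -/
theorem mainX (A : AS G Ω T) {p : ℕ} (hp : p.Prime) {k : ℕ} (hn : Nat.card Ω = p ^ k) {X : Subgroup T} (hX : IsZ p X)
    {x c : T} (hx : x ∈ CC X) (hc : c ∈ CC X)
    (hxc : c ≠ x) {Y : Subgroup T} (hYx : ∀ y ∈ Y, y * x = x * y) (hYc : ∀ y ∈ Y, y * c = c * y → y = 1)
    {r j : ℕ} (hr : r.Prime) (hrp : r ≠ p) (hs : (x⁻¹ * c) ^ r ^ j = 1) {Q : Subgroup T}
    (hQ : ∀ g ∈ Q, g * (x⁻¹ * c) = (x⁻¹ * c) * g) {B : ℕ}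
    (hB : ∀ D ≤ Q, (∀ d ∈ D, d ∉ CC X) → B * Nat.card D ≤ Nat.card Q) :
    (Nat.card Ω - 1) * (Nat.card Y * B) ≤ Nat.card Ω * ((CC X).ncard - (Nat.card Ω - 1)) :=
  main A hp hn (inv_CC A hp hX) (fun x hx a => fpf A hp hn hX.le hx a) (fun x hx g => CC_conj hx g) hx hc hxc hYx hYc
    hr hrp hs hQ fun a => hB _ inf_le_left fun d hd hdC => fpf A hp hn hX.le hdC a hd.2

end

end Cfsg.Agent.H59.Sig
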