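import Cfsg.Agent.H59.Sig.E
import Cfsg.Agent.H400.TwoExcChev

/-!
# No 2-transitive group of degree a power of `p` with socle `F₄(q)`, `q` odd (helper59)
-/

set_option autoImplicit false
set_option linter.unusedSectionVars false

namespace Cfsg.Agent.H59.Sig

open CoxeterSystem Cfsg.Agent.ChevalleyStructure.CoxeterGeom Cfsg.Agent.Tits.Roots Cfsg.Agent.Tits.Core
  Cfsg.Agent.Nodes.Reps Cfsg.Agent.Nodes.BNOf Cfsg.Agent.KFacts.RgdSL Cfsg.Agent.Nodes.RGDChev
  Cfsg.Agent.ChevalleyStructure.CoxeterGeomTypes Cfsg.Agent.Nodes.KindChev Cfsg.Agent.Nodes.Coroot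
open Cfsg.Lie Cfsg.Agent.ChevalleyStructure Cfsg.Agent.ChevalleyStructure.Elts
open Cfsg.Agent.H384.TwoTrans Cfsg.Agent.H400.TwoExc
open Cfsg.Agent.ChevalleyStructure.SL2Hom (up lo)
open Cfsg.Agent.H92.ExcSL2

universe u v w

section Rows

variable {G : Type v} {Ω : Type w} [Group G] [MulAction G Ω] {T : Subgroup G} {K : Type u} [Field K] [Finite K]
  {p : ℕ} [CharP K p]

theorem sigC (A : AS G Ω T) {D : ChevalleyDatum} {l : ℕ} {M : CoxeterMatrix (Fin l)} (hp : IsType D l M)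
    (e : ↥(D.group K) ≃* ↥T) {CA : List (List ℤ)} {dl : List ℤ} {P : List (List ℤ × List ℤ × ℕ)}
    (hA : ∀ i : Fin l, CA.getD i [] = List.ofFn (cartanOf D l i))
    (hck : chkT l CA dl (fun _ => 1) P = true) {rl : List ℤ} {N : ℤ} (hdm : domL l CA P N = [rl]) {k : ℕ}
    (hgt : cntF P (fun z => decide (0 < z)) rl = 2 * k + 1) (hC : chkC P N rl = true) {R : ℕ} (hR : R < D.nroots)
    (hvR : vec D l R = toV rl) {m : ℤ} (hN : chkN D = true) (hS : chkS D l R m = true) (hm : (m : K) ≠ 0)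
    (H : ∀ {W : Type} [Group W] (cs : CoxeterSystem M W), GR cs hp.isCartan (toV dl) (toV rl))
    (hqN : qf (cartanOf D l) (toV dl) (toV rl) (toV rl) = N) {px : List ℤ × List ℤ × ℕ} (hx : px ∈ P)
    (hxN : qf (cartanOf D l) (toV dl) (toV px.1) (toV px.1) = N)
    (hxr : 2 * qf (cartanOf D l) (toV dl) (toV px.1) (toV rl) = N) {ex : List (ℕ × ℕ)} (hex : expF P N = ex)
    {pb pt pr : List ℤ × List ℤ × ℕ} (hpr : pr ∈ P) (hpr' : pr.1 = rl)
    (hpb : pb ∈ P) (hpt : pt ∈ P) (hb0 : dotL pb.2.1 rl = 0) (ht0 : dotL pt.2.1 rl = 0)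
    (hbN : dotL pb.2.1 pb.1 = N) (htb : 0 < dotL pt.2.1 pb.1) (hne : pt.1 ≠ pb.1)
    {a : ℕ} (hn : Nat.card Ω = p ^ a) :
    (Nat.card Ω - 1) * (Nat.card K ^ (2 * k + 1) * Nat.card K ^ 2) ≤ Nat.card Ω *
      ((Nat.card K - 1) * (ex.map fun z => Nat.card K ^ z.1 + Nat.card K ^ z.2).sum - (Nat.card Ω - 1)) := by
  have hpp : p.Prime := (CharP.char_is_prime_or_zero K p).resolve_right (CharP.char_ne_zero_of_finite K p)
  have : Fact p.Prime := ⟨hpp⟩
  have := A.finG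
  have := A.simple
  let cs : CoxeterSystem M M.Group := M.toCoxeterSystem
  have hW : Finite M.Group := finite_W hp cs
  have R₀ := rgd (K := K) hp cs p
  have R' := Nodes.RGDLib.rgd_map_of_injective R₀ e.toMonoidHom e.injective
  have hH := H cs
  rw [← hvR] at hH
  have hgi : GI R' (toV dl) (vec D l R) := (giChev hp hN hS hR hm hH p).map e R'
  rw [hvR] at hgi
  have := Fintype.ofFinite K
  obtain ⟨f, -, hf⟩ := FiniteField.card K p
  rw [← Nat.card_eq_fintype_card] at hf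
  obtain ⟨HP, -⟩ := of_chkT hA hck (e := fun _ => 1) (fun _ _ => rfl)
  have hcard : ∀ t, IsRoot cs hp.isCartan t → Nat.card (XE e l t) = Nat.card K ^ 1 := by
    intro t ht
    obtain ⟨w, i, rfl⟩ := ht
    rw [pow_one]
    refine (Nodes.CardSup.card_X_rep R' w (isRoot_sr cs hp.isCartan i)).trans ?_
    exact card_XE hp e i
  have L := lr_gen (k := k) (e := fun _ => 1) (G1E hp e cs) hA hck hdm hgt hC hgi hqN
    (x := toV px.1) (HP.isRoot (List.mem_map.2 ⟨px, hx, rfl⟩)) hxN hxr hex f.pos hf hcard rfl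
  obtain ⟨t, r0, j, ht, hr0, hrp, hord⟩ := exists_ul (F := K) hpp
  refine sig_tab A (j := j) hA hck hdm hgt hgi hqN (e := fun _ => 1) hcard (fun _ _ => le_rfl) rfl L hpr hpr' hpb hpt
    hb0 ht0 hbN htb hne hn (x := e (ph hp.inList hR (up 1))) (c := e (ph hp.inList hR (lo t))) ?_
    (up_ne e _ hR one_ne_zero) ?_ (lo_ne e _ hR ht) hr0 hrp ?_
  · rw [← hvR]; exact up_mem hp e hR 1
  · rw [← hvR]; exact lo_mem hp e hR t
  · rw [← map_inv, ← map_mul, ← map_inv, ← map_mul, ← map_pow, ← map_pow, hord, map_one, map_one]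

theorem noF4_odd (A : AS G Ω T) (e : ↥(chevF4.group K) ≃* ↥T) (h2 : p ≠ 2) {a : ℕ} (hn : Nat.card Ω = p ^ a) :
    False := by
  have hpp : p.Prime := (CharP.char_is_prime_or_zero K p).resolve_right (CharP.char_ne_zero_of_finite K p)
  have hp : IsType chevF4 4 CoxeterMatrix.F₄ := by simp [IsType, typeList]
  have h0 := nF4 A e h2 (hB_of_pow A hpp hn)
  have key := sigC (p := p) A hp e
    (CA := CAF4c) (by decide +kernel) chkF4c domF4c (k := 7) gtF4c (by decide +kernel) (R := 47) (by decide +kernel)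
    (by decide +kernel) (m := 2) chkNF chkSF (by exact_mod_cast int_ne (p := p) (K := K) Nat.prime_two h2)
    (fun cs => grF cs hp) (by decide +kernel) (px := ([2, 4, 3, 1], [0, 0, 2, -2], 1)) (by decide +kernel)
    (by decide +kernel) (by decide +kernel) expF4c (pr := ([2, 4, 3, 2], [0, 0, 0, 2], 1)) (by decide +kernel) rfl
    (pb := ([0, 0, 1, 0], [0, -2, 4, -2], 1)) (pt := ([0, 1, 1, 0], [-1, 0, 2, -2], 1))
    (by decide +kernel) (by decide +kernel) (by decide +kernel) (by decide +kernel) (by decide +kernel)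
    (by decide +kernel) (by decide +kernel) hn
  set q := Nat.card K with hq
  have hq2 : 2 ≤ q := two_le_card
  have hb : 2 ≤ q ^ 4 := le_trans hq2 (Nat.le_self_pow (by norm_num) q)
  have e0 : (q - 1) * (exF4c.map fun z => q ^ z.1 + q ^ z.2).sum = ((q ^ 4) ^ 3 - 1) * (q ^ 4 + 1) :=
    nat_poly (a := (q ^ 4) ^ 3) (S := q ^ 4 + 1) (by omega) (Nat.one_le_pow _ _ (by omega)) (by
      unfold exF4c
      simp only [List.map_cons, List.map_nil, List.sum_cons, List.sum_nil]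
      ring)
  rw [e0] at key
  have h17 : q ^ (2 * 7 + 1) * q ^ 2 = q * (q ^ 8 * q ^ 8) := by ring
  rw [h17] at key
  rcases h0 with h0 | h0
  · rw [h0] at key
    obtain ⟨m, hm⟩ : ∃ m, q ^ 4 = m + 1 := ⟨q ^ 4 - 1, by omega⟩
    have e8 : q ^ 8 = (m + 1) * (m + 1) := by rw [← hm]; ring
    have e1 : ((q ^ 4) ^ 3 - 1) * (q ^ 4 + 1) - (q ^ 8 - 1) = (q ^ 8 - 1) * (q ^ 8 + q ^ 4) := by
      rw [e8, hm]
      have h1 : (m + 1) ^ 3 - 1 = m ^ 3 + 3 * m ^ 2 + 3 * m := by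
        have : (m + 1) ^ 3 = m ^ 3 + 3 * m ^ 2 + 3 * m + 1 := by ring
        omega
      have h3 : (m + 1) * (m + 1) - 1 = m ^ 2 + 2 * m := by
        have : (m + 1) * (m + 1) = m ^ 2 + 2 * m + 1 := by ring
        omega
      rw [h1, h3]
      apply Nat.sub_eq_of_eq_add
      ring
    rw [e1] at key
    have h5 : (q ^ 8 - 1) * (q * (q ^ 8 * q ^ 8)) ≤ (q ^ 8 - 1) * (q ^ 8 * (q ^ 8 + q ^ 4)) := by
      refine key.trans (le_of_eq ?_); ring
    have h8 : 1 < q ^ 8 := Nat.one_lt_pow (by norm_num) (by omega)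
    have h6 := Nat.le_of_mul_le_mul_left h5 (by omega)
    have h7 : q ^ 4 < q ^ 8 := Nat.pow_lt_pow_right (by omega) (by norm_num)
    have h9 : q ^ 8 * (q ^ 8 + q ^ 4) < q ^ 8 * (2 * q ^ 8) := by
      apply Nat.mul_lt_mul_of_pos_left _ (by omega)
      omega
    have h10 : q ^ 8 * (2 * q ^ 8) ≤ q * (q ^ 8 * q ^ 8) := by
      calc q ^ 8 * (2 * q ^ 8) = 2 * (q ^ 8 * q ^ 8) := by ring
        _ ≤ q * (q ^ 8 * q ^ 8) := Nat.mul_le_mul_right _ hq2
    omega
  · rw [h0] at key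
    have h12 : 1 < q ^ 12 := Nat.one_lt_pow (by norm_num) (by omega)
    have e1 : ((q ^ 4) ^ 3 - 1) * (q ^ 4 + 1) - (q ^ 12 - 1) = (q ^ 12 - 1) * q ^ 4 := by
      have : (q ^ 4) ^ 3 = q ^ 12 := by ring
      rw [this, mul_add, mul_one, Nat.add_sub_cancel]
    rw [e1] at key
    have h5 : (q ^ 12 - 1) * (q * (q ^ 8 * q ^ 8)) ≤ (q ^ 12 - 1) * (q ^ 8 * q ^ 8) := by
      refine key.trans (le_of_eq ?_); ring
    have h6 := Nat.le_of_mul_le_mul_left h5 (by omega)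
    have h8 : 0 < q ^ 8 * q ^ 8 := by positivity
    have h10 : 2 * (q ^ 8 * q ^ 8) ≤ q * (q ^ 8 * q ^ 8) := Nat.mul_le_mul_right _ hq2
    omega

end Rows

end Cfsg.Agent.H59.Sig
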