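import Cfsg.Agent.ChevalleyStructure.SL2Hom

/-!
# Elements of order 3 or 4 of `SL₂(F)` which are products of two transvections (helper59)
-/

set_option autoImplicit false

namespace Cfsg.Agent.H59.Sig

open Cfsg.Agent.ChevalleyStructure.SL2Hom

variable {F : Type*} [Field F]

theorem up_inv (t : F) : (up t)⁻¹ = up (-t) := by
  apply inv_eq_of_mul_eq_one_left
  apply Subtype.ext
  show (!![1, -t; 0, 1] * !![1, t; 0, 1] : Matrix (Fin 2) (Fin 2) F) = 1
  ext i j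
  fin_cases i <;> fin_cases j <;> simp [Matrix.mul_apply, Fin.sum_univ_two]

theorem coe_ul (t : F) : ((up 1)⁻¹ * lo t).1 = !![1 - t, -1; t, 1] := by
  rw [up_inv]
  show (!![1, -1; 0, 1] * !![1, 0; t, 1] : Matrix (Fin 2) (Fin 2) F) = _
  ext i j
  fin_cases i <;> fin_cases j <;>
    simp [Matrix.mul_apply, Fin.sum_univ_two, sub_eq_add_neg]

theorem ul_three : ((up (1 : F))⁻¹ * lo 3) ^ 3 = 1 := by
  apply Subtype.ext
  rw [pow_succ, pow_two]
  show ((up (1 : F))⁻¹ * lo 3).1 * ((up (1 : F))⁻¹ * lo 3).1 * ((up (1 : F))⁻¹ * lo 3).1 = 1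
  rw [coe_ul]
  ext i j
  fin_cases i <;> fin_cases j <;>
    (simp [Matrix.mul_apply, Fin.sum_univ_two]; try ring)

theorem ul_two_sq : ((up (1 : F))⁻¹ * lo 2) ^ 2 = -1 := by
  apply Subtype.ext
  rw [pow_two]
  show ((up (1 : F))⁻¹ * lo 2).1 * ((up (1 : F))⁻¹ * lo 2).1 = -1
  rw [coe_ul]
  ext i j
  fin_cases i <;> fin_cases j <;>
    (simp [Matrix.mul_apply, Fin.sum_univ_two]; try ring)

theorem ul_two : ((up (1 : F))⁻¹ * lo 2) ^ 4 = 1 := by
  have : ((up (1 : F))⁻¹ * lo 2) ^ 4 = (((up (1 : F))⁻¹ * lo 2) ^ 2) ^ 2 := by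
    rw [← pow_mul]
  rw [this, ul_two_sq, neg_one_sq]

/-- **a product of two transvections of order 3 or 4** -/
theorem exists_ul {p : ℕ} (hp : p.Prime) [CharP F p] : ∃ (t : F) (r j : ℕ), t ≠ 0 ∧ r.Prime ∧ r ≠ p ∧
    ((up (1 : F))⁻¹ * lo t) ^ r ^ j = 1 := by
  by_cases h3 : p = 3
  · subst h3
    refine ⟨2, 2, 2, ?_, Nat.prime_two, by norm_num, ul_two⟩
    intro h
    have h1 : ((2 : ℕ) : F) = 0 := by exact_mod_cast h
    rw [CharP.cast_eq_zero_iff F 3] at h1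
    omega
  · refine ⟨3, 3, 1, ?_, Nat.prime_three, fun h => h3 h.symm, by rw [pow_one]; exact ul_three⟩
    intro h
    have h1 : ((3 : ℕ) : F) = 0 := by exact_mod_cast h
    rw [CharP.cast_eq_zero_iff F p] at h1
    exact h3 ((Nat.prime_dvd_prime_iff_eq hp Nat.prime_three).1 h1)

end Cfsg.Agent.H59.Sig
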