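import Cfsg.Agent.H59.Sig.Tab
import Cfsg.Agent.H59.Sig.SLElt
import Cfsg.Agent.H400.TwoExcE

/-!
# No 2-transitive group of degree a power of `p` with socle `E₆(q)`, `E₇(q)`, `E₈(q)`, `q` a power of `p` (helper59)
-/

set_option autoImplicit false
set_option linter.unusedSectionVars false

namespace Cfsg.Agent.H59.Sig

open CoxeterSystem Cfsg.Agent.ChevalleyStructure.CoxeterGeom Cfsg.Agent.Tits.Roots Cfsg.Agent.Tits.Core
  Cfsg.Agent.Nodes.BNOf Cfsg.Agent.KFacts.RgdSL Cfsg.Agent.Nodes.RGDChev Cfsg.Agent.Nodes.Coroot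
  Cfsg.Agent.ChevalleyStructure.CoxeterGeomTypes Cfsg.Agent.Nodes.KindChev
open Cfsg.Lie Cfsg.Agent.ChevalleyStructure Cfsg.Agent.ChevalleyStructure.Elts
open Cfsg.Agent.H384.TwoTrans Cfsg.Agent.H400.TwoExc
open Cfsg.Agent.ChevalleyStructure.SL2Hom (up lo)
open Cfsg.Agent.H92.ExcSL2

universe u v w

section Elt

variable {D : ChevalleyDatum} {l : ℕ} {M : CoxeterMatrix (Fin l)} (hp : IsType D l M) {K : Type u} [Field K]
  {Y : Type v} [Group Y] (e : ↥(D.group K) ≃* Y)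

include hp

theorem up_mem {R : ℕ} (hR : R < D.nroots) (t : K) : e (ph hp.inList hR (up t)) ∈ XE e l (vec D l R) := by
  refine ⟨_, ?_, rfl⟩
  rw [SetLike.mem_coe, Subgroup.mem_subgroupOf, XV_vec hp K hR]
  show SL2Hom.phi (SL2All.good_of_mem D hp.inList R hR) K (up t) ∈ _
  rw [phi_up hp.inList hR]
  exact xG_mem_rootSubgroup hp.inList _ _

theorem lo_mem {R : ℕ} (hR : R < D.nroots) (t : K) : e (ph hp.inList hR (lo t)) ∈ XE e l (-vec D l R) := by
  refine ⟨_, ?_, rfl⟩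
  rw [SetLike.mem_coe, Subgroup.mem_subgroupOf, ← vec_neg hp hR, XV_vec hp K (NPerm.neg_lt hp.inList hR)]
  show SL2Hom.phi (SL2All.good_of_mem D hp.inList R hR) K (lo t) ∈ _
  rw [phi_lo hp.inList hR]
  exact xG_mem_rootSubgroup hp.inList _ _

omit hp in
theorem up_ne (hD : InList D) {R : ℕ} (hR : R < D.nroots) {t : K} (ht : t ≠ 0) : e (ph hD hR (up t)) ≠ 1 := by
  intro h
  have h1 : ph hD hR (up t) = 1 := by
    apply e.injective
    rw [h, map_one]
  rcases ph_eq_one hD hR h1 with h2 | h2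
  · exact ht (congrArg (fun z : Matrix.SpecialLinearGroup (Fin 2) K => z.1 0 1) h2)
  · have h3 := congrArg (fun z : Matrix.SpecialLinearGroup (Fin 2) K => z.1 0 1) h2
    exact ht (by simpa [up] using h3)

omit hp in
theorem lo_ne {R : ℕ} (hD : InList D) (hR : R < D.nroots) {t : K} (ht : t ≠ 0) : e (ph hD hR (lo t)) ≠ 1 := by
  intro h
  have h1 : ph hD hR (lo t) = 1 := by
    apply e.injective
    rw [h, map_one]
  rcases ph_eq_one hD hR h1 with h2 | h2
  · exact ht (congrArg (fun z : Matrix.SpecialLinearGroup (Fin 2) K => z.1 1 0) h2)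
  · have h3 := congrArg (fun z : Matrix.SpecialLinearGroup (Fin 2) K => z.1 1 0) h2
    exact ht (by simpa [lo] using h3)

end Elt

section Rows

variable {G : Type v} {Ω : Type w} [Group G] [MulAction G Ω] {T : Subgroup G} {K : Type u} [Field K] [Finite K]
  {p : ℕ} [CharP K p]

theorem sigE (A : AS G Ω T) {D : ChevalleyDatum} {l : ℕ} {M : CoxeterMatrix (Fin l)} (hp : IsType D l M)
    (e : ↥(D.group K) ≃* ↥T) (h4 : ∀ i j, M i j ≠ 4) (h6 : ∀ i j, M i j ≠ 6)
    {CA : List (List ℤ)} {dl : List ℤ} {P : List (List ℤ × List ℤ × ℕ)}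
    (hA : ∀ i : Fin l, CA.getD i [] = List.ofFn (cartanOf D l i))
    (hdl : ∀ i : Fin l, dl.getD i 0 = 1) (hck : chkT l CA dl (fun _ => 1) P = true) {rl : List ℤ}
    (hdm : domL l CA P 2 = [rl]) {k : ℕ} (hgt : cntF P (fun z => decide (0 < z)) rl = 2 * k + 1) (i₀ : Fin l)
    (hi₀ : dotL (CA.getD i₀ []) rl = 1) {ex : List (ℕ × ℕ)} (hex : expF P 2 = ex)
    {R : ℕ} (hR : R < D.nroots) (hvR : vec D l R = toV rl)
    {pb pt : List ℤ × List ℤ × ℕ}
    (hpb : pb ∈ P) (hpt : pt ∈ P) (hb0 : dotL pb.2.1 rl = 0) (ht0 : dotL pt.2.1 rl = 0)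
    (hbN : dotL pb.2.1 pb.1 = 2) (htb : 0 < dotL pt.2.1 pb.1) (hne : pt.1 ≠ pb.1)
    {a : ℕ} (hn : Nat.card Ω = p ^ a) :
    (Nat.card Ω - 1) * (Nat.card K ^ (2 * k + 1) * Nat.card K ^ 2) ≤ Nat.card Ω *
      ((Nat.card K - 1) * (ex.map fun z => Nat.card K ^ z.1 + Nat.card K ^ z.2).sum - (Nat.card Ω - 1)) := by
  have hpp : p.Prime := (CharP.char_is_prime_or_zero K p).resolve_right (CharP.char_ne_zero_of_finite K p)
  have : Fact p.Prime := ⟨hpp⟩
  have := A.finG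
  have := A.simple
  let cs : CoxeterSystem M M.Group := M.toCoxeterSystem
  have hW : Finite M.Group := finite_W hp cs
  obtain ⟨T', n, R'⟩ := rgdE hp e cs p
  have := Fintype.ofFinite K
  obtain ⟨f, -, hf⟩ := FiniteField.card K p
  rw [← Nat.card_eq_fintype_card] at hf
  have hs : SL cs hp.isCartan := fun _ _ hx hy => Nodes.SimplyLaced.cpr_symm cs _ h4 h6 hx hy
  have L := lr_tab R' hs (G1E hp e cs) (center_eq_bot A.nonab) hA hdl hck hdm hgt i₀ hi₀ hex f.pos hf (card_XE hp e)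
  obtain ⟨H, F⟩ := of_chkT hA hck (e := fun _ => 1) (fun _ _ => rfl)
  have hd1 : (toV dl : Fin l → ℤ) = fun _ => 1 := by
    funext i; exact hdl i
  have hAs : ∀ i j, cartanOf D l i j = cartanOf D l j i := by
    intro i j
    have h1 := hs (sr j) (sr i) (isRoot_sr cs _ j) (isRoot_sr cs _ i)
    rw [cpr_sr, cpr_sr] at h1
    have h2 : ∀ a b : Fin l, pairing (cartanOf D l) a (sr b) = cartanOf D l a b := by
      intro a b
      unfold pairing sr
      simp [Pi.single_apply]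
    rwa [h2, h2] at h1
  have hdA : ∀ i j, (toV dl : Fin l → ℤ) i * cartanOf D l i j = (toV dl : Fin l → ℤ) j * cartanOf D l j i := by
    intro i j
    rw [hd1, one_mul, one_mul, hAs]
  have hqr : ∀ s, IsRoot cs hp.isCartan s → qf (cartanOf D l) (toV dl) s s = 2 := by
    rintro _ ⟨w, i, rfl⟩
    rw [qf_root cs _ hdA, hd1, mul_one]
  have hrl : rl ∈ domL l CA P 2 := by rw [hdm]; exact List.mem_singleton_self _
  unfold domL at hrl
  obtain ⟨pr, hpr, hpe⟩ := List.mem_map.1 hrl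
  rw [List.mem_filter, Bool.and_eq_true, List.all_eq_true] at hpr
  obtain ⟨hprP, hpr1, -⟩ := hpr
  have hrL : (toV rl : Fin l → ℤ) ∈ P.map fun p => (toV p.1 : Fin l → ℤ) :=
    List.mem_map.2 ⟨pr, hprP, by rw [hpe]⟩
  have hrr : IsRoot cs hp.isCartan (toV rl) := H.isRoot hrL
  have hrlen : rl.length = l := by rw [← hpe]; exact (F.row pr hprP).1
  have hr1 : ∀ i, 0 ≤ pairing (cartanOf D l) i (toV rl) := by
    intro i
    have h1 := hpr1 i (List.mem_range.2 i.2)
    rw [decide_eq_true_iff, hpe] at h1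
    rw [pairing_toV hA i hrlen]
    exact h1
  have hN : qf (cartanOf D l) (toV dl) (toV rl) (toV rl) = 2 := hqr _ hrr
  have hdom := dom_of_chk hA F hdm hN
  have horb : ∀ s, IsRoot cs hp.isCartan s → ∃ w, rep cs hp.isCartan w (toV rl) = s := by
    intro s hs'
    exact (orbit_iff H hdA hdom hs').2 (by rw [hqr s hs', hN])
  have h1r : cpr cs hp.isCartan (toV rl) (sr i₀) = 1 := by
    rw [cpr_sr, pairing_toV hA i₀ hrlen, hi₀]
  have GRr : GR cs hp.isCartan (toV dl) (toV rl) := {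
    rr := hrr
    dom := hr1
    hd := hdA
    dpos := fun i => by rw [hd1]; norm_num
    max := fun i => by rw [hN, hd1]; norm_num }
  have GG' := gi_of_SL R' hs GRr horb (isRoot_sr cs _ i₀) h1r
  have hcard : ∀ s, IsRoot cs hp.isCartan s → Nat.card (XE e l s) = Nat.card K ^ 1 := by
    rintro _ ⟨w, i, rfl⟩
    rw [pow_one]
    exact (Nodes.CardSup.card_X_rep R' w (isRoot_sr cs _ i)).trans (card_XE hp e i)
  obtain ⟨t, r0, j, ht, hr0, hrp, hord⟩ := exists_ul (F := K) hpp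
  refine sig_tab A (j := j) hA hck hdm hgt GG' hN (e := fun _ => 1) hcard (fun _ _ => le_rfl) rfl L hprP hpe hpb hpt hb0 ht0 hbN
    htb hne hn (x := e (ph hp.inList hR (up 1))) (c := e (ph hp.inList hR (lo t))) ?_ (up_ne e _ hR one_ne_zero) ?_
    (lo_ne e _ hR ht) hr0 hrp ?_
  · rw [← hvR]; exact up_mem hp e hR 1
  · rw [← hvR]; exact lo_mem hp e hR t
  · rw [← map_inv, ← map_mul, ← map_inv, ← map_mul, ← map_pow, ← map_pow, hord, map_one, map_one]

theorem hB_of_pow (A : AS G Ω T) (hp : p.Prime) {a : ℕ} (hn : Nat.card Ω = p ^ a) (U : Sylow p ↥T) (x y : Ω) :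
    ∃ g ∈ Subgroup.normalizer ((U : Subgroup ↥T) : Set ↥T), g • x = y := by
  obtain ⟨g, hg, h⟩ := sylow_trans A hp hn U x y
  exact ⟨g, Subgroup.le_normalizer hg, h⟩

theorem end_arith {q k S : ℕ} (hq : 2 ≤ q) (hS : (q - 1) * S < q ^ (k + 1) - 1)
    (h : (q ^ (k + 2) - 1) * (q ^ (2 * k + 1) * q ^ 2) ≤
      q ^ (k + 2) * ((q * q ^ (k + 1) - 1) * S - (q ^ (k + 2) - 1))) : False := by
  have h1 : q * q ^ (k + 1) = q ^ (k + 2) := by ring
  have h2 : 2 ≤ q ^ (k + 2) := le_trans hq (Nat.le_self_pow (by omega) q)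
  have h3 : 1 ≤ q ^ (k + 1) := Nat.one_le_pow _ _ (by omega)
  rw [h1] at h
  obtain ⟨m, hm⟩ : ∃ m, q ^ (k + 2) = m + 1 := ⟨q ^ (k + 2) - 1, by omega⟩
  have h4 : m * S - m = m * (S - 1) := by
    rw [Nat.mul_sub, mul_one]
  rw [hm, Nat.add_sub_cancel, h4] at h
  have h5 : m * (q ^ (2 * k + 1) * q ^ 2) ≤ m * ((m + 1) * (S - 1)) := by
    refine h.trans (le_of_eq ?_)
    ring
  have h6 : q ^ (2 * k + 1) * q ^ 2 ≤ (m + 1) * (S - 1) := Nat.le_of_mul_le_mul_left h5 (by omega)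
  have h7 : q ^ (2 * k + 1) * q ^ 2 = q ^ (k + 2) * q ^ (k + 1) := by ring
  rw [← hm, h7] at h6
  have h8 : q ^ (k + 1) ≤ S - 1 := Nat.le_of_mul_le_mul_left h6 (by omega)
  obtain ⟨m', rfl⟩ : ∃ m', q = m' + 2 := ⟨q - 2, by omega⟩
  have h9 : S ≤ (m' + 2 - 1) * S := Nat.le_mul_of_pos_left _ (by omega)
  omega

theorem noE6 (A : AS G Ω T) (e : ↥(chevE6.group K) ≃* ↥T) {a : ℕ} (hn : Nat.card Ω = p ^ a) : False := by
  have hpp : p.Prime := (CharP.char_is_prime_or_zero K p).resolve_right (CharP.char_ne_zero_of_finite K p)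
  have h0 := nE6 A e (hB_of_pow A hpp hn)
  have key := sigE (p := p) A (D := chevE6) (l := 6) (M := CoxeterMatrix.E₆) (by simp [IsType, typeList]) e
    ne_E6.1 ne_E6.2 (CA := CAE6) (by decide +kernel) (dl := dlE6) (by decide +kernel)
    chkE6 domE6 (k := 10) gtE6 1 (by decide +kernel) expE6 (R := 71) (by decide +kernel) (by decide +kernel)
    (pb := ([1, 0, 1, 0, 0, 0], [1, 0, 1, -1, 0, 0], 1)) (pt := ([1, 0, 0, 0, 0, 0], [2, 0, -1, 0, 0, 0], 1))
    (by decide +kernel) (by decide +kernel) (by decide +kernel) (by decide +kernel) (by decide +kernel)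
    (by decide +kernel) (by decide +kernel) hn
  set q := Nat.card K with hq
  have hq2 : 2 ≤ q := two_le_card
  have e1 : (q - 1) * (exE6.map fun z => q ^ z.1 + q ^ z.2).sum =
      (q * q ^ (10 + 1) - 1) * (q ^ 10 + q ^ 7 + q ^ 6 + q ^ 4 + q ^ 3 + 1) := by
    refine nat_poly (by omega) (Nat.mul_pos (by omega) (by positivity)) ?_
    unfold exE6
    simp only [List.map_cons, List.map_nil, List.sum_cons, List.sum_nil]
    ring
  rw [e1, h0] at key
  exact end_arith (k := 10) hq2 (small hq2 (R := q ^ 9 + q ^ 8 + q ^ 5 + q ^ 2 + q) (by positivity) (by ring)) key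

theorem noE7 (A : AS G Ω T) (e : ↥(chevE7.group K) ≃* ↥T) {a : ℕ} (hn : Nat.card Ω = p ^ a) : False := by
  have hpp : p.Prime := (CharP.char_is_prime_or_zero K p).resolve_right (CharP.char_ne_zero_of_finite K p)
  have h0 := nE7 A e (hB_of_pow A hpp hn)
  have key := sigE (p := p) A (D := chevE7) (l := 7) (M := CoxeterMatrix.E₇) (by simp [IsType, typeList]) e
    ne_E7.1 ne_E7.2 (CA := CAE7) (by decide +kernel) (dl := dlE7) (by decide +kernel)
    chkE7 domE7 (k := 16) gtE7 0 (by decide +kernel) expE7 (R := 125) (by decide +kernel) (by decide +kernel)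
    (pb := ([0, 0, 0, 0, 1, 1, 0], [0, 0, 0, -1, 1, 1, -1], 1))
    (pt := ([0, 0, 0, 0, 1, 0, 0], [0, 0, 0, -1, 2, -1, 0], 1))
    (by decide +kernel) (by decide +kernel) (by decide +kernel) (by decide +kernel) (by decide +kernel)
    (by decide +kernel) (by decide +kernel) hn
  set q := Nat.card K with hq
  have hq2 : 2 ≤ q := two_le_card
  have e1 : (q - 1) * (exE7.map fun z => q ^ z.1 + q ^ z.2).sum =
      (q * q ^ (16 + 1) - 1) * (q ^ 16 + q ^ 12 + q ^ 10 + q ^ 8 + q ^ 6 + q ^ 4 + 1) := by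
    refine nat_poly (by omega) (Nat.mul_pos (by omega) (by positivity)) ?_
    unfold exE7
    simp only [List.map_cons, List.map_nil, List.sum_cons, List.sum_nil]
    ring
  rw [e1, h0] at key
  exact end_arith (k := 16) hq2 (small hq2
    (R := q ^ 15 + q ^ 14 + q ^ 13 + q ^ 11 + q ^ 9 + q ^ 7 + q ^ 5 + q ^ 3 + q ^ 2 + q) (by positivity) (by ring)) key

theorem noE8 (A : AS G Ω T) (e : ↥(chevE8.group K) ≃* ↥T) {a : ℕ} (hn : Nat.card Ω = p ^ a) : False := by
  have hpp : p.Prime := (CharP.char_is_prime_or_zero K p).resolve_right (CharP.char_ne_zero_of_finite K p)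
  have h0 := nE8 A e (hB_of_pow A hpp hn)
  have key := sigE (p := p) A (D := chevE8) (l := 8) (M := CoxeterMatrix.E₈) (by simp [IsType, typeList]) e
    ne_E8.1 ne_E8.2 (CA := CAE8) (by decide +kernel) (dl := dlE8) (by decide +kernel)
    chkE8 domE8 (k := 28) gtE8 7 (by decide +kernel) expE8 (R := 239) (by decide +kernel) (by decide +kernel)
    (pb := ([1, 0, 1, 0, 0, 0, 0, 0], [1, 0, 1, -1, 0, 0, 0, 0], 1))
    (pt := ([1, 0, 0, 0, 0, 0, 0, 0], [2, 0, -1, 0, 0, 0, 0, 0], 1))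
    (by decide +kernel) (by decide +kernel) (by decide +kernel) (by decide +kernel) (by decide +kernel)
    (by decide +kernel) (by decide +kernel) hn
  set q := Nat.card K with hq
  have hq2 : 2 ≤ q := two_le_card
  have e1 : (q - 1) * (exE8.map fun z => q ^ z.1 + q ^ z.2).sum =
      (q * q ^ (28 + 1) - 1) * (q ^ 28 + q ^ 22 + q ^ 18 + q ^ 16 + q ^ 12 + q ^ 10 + q ^ 6 + 1) := by
    refine nat_poly (by omega) (Nat.mul_pos (by omega) (by positivity)) ?_
    unfold exE8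
    simp only [List.map_cons, List.map_nil, List.sum_cons, List.sum_nil]
    ring
  rw [e1, h0] at key
  exact end_arith (k := 28) hq2 (small hq2
    (R := q ^ 27 + q ^ 26 + q ^ 25 + q ^ 24 + q ^ 23 + q ^ 21 + q ^ 20 + q ^ 19 + q ^ 17 + q ^ 15 + q ^ 14 + q ^ 13 +
      q ^ 11 + q ^ 9 + q ^ 8 + q ^ 7 + q ^ 5 + q ^ 4 + q ^ 3 + q ^ 2 + q) (by positivity) (by ring)) key

end Rows

end Cfsg.Agent.H59.Sig
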