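import Cfsg.Agent.H400.TwoExcGen
import Cfsg.Agent.Nodes.Slope
import Cfsg.Agent.H59.Sig.Base

/-!
# Pairs of opposite long root elements in groups with a root group datum (helper59)

* `QQ_free` : `y ∈ QQ r` commutes with `u ∈ X (-r)`, `u ≠ 1`: then `y = 1`;
* `q3_bound` : the subgroups of `⟨X s, X (r - s), X r⟩` meeting `X r` trivially have index at least `q²`;
* `rgd_main` : the main inequality.
-/

set_option autoImplicit false
set_option linter.unusedSectionVars false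

namespace Cfsg.Agent.H59.Sig

open CoxeterSystem Cfsg.Agent.ChevalleyStructure.CoxeterGeom Cfsg.Agent.Tits.Roots Cfsg.Agent.Tits.Core
  Cfsg.Agent.Tits.Exchange Cfsg.Agent.Nodes.Reps Cfsg.Agent.Nodes.BNOf Cfsg.Agent.Nodes.StabComb
  Cfsg.Agent.Nodes.Bruhat Cfsg.Agent.Nodes.OppDec Cfsg.Agent.Nodes.PosPair Cfsg.Agent.Nodes.Coroot
  Cfsg.Agent.Nodes.Slope
  Cfsg.Agent.KFacts.RgdPar Cfsg.Agent.KFacts.RgdSL Cfsg.Agent.KFacts.RgdTI Cfsg.Agent.Nodes.LeviDec
  Cfsg.Agent.Nodes.KindChev Cfsg.Agent.KFacts.RgdCent Cfsg.Agent.H400.TwoExc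
open scoped commutatorElement

/-! ### Groups of order at least `q³` with the centre `Z` -/

section Heis3

variable {V : Type*} [Group V]

theorem mem_three {A B Z : Subgroup V} (hAZ : ∀ z ∈ Z, ∀ a ∈ A, z * a = a * z) (hBZ : ∀ z ∈ Z, ∀ b ∈ B, z * b = b * z)
    (hc : ∀ a ∈ A, ∀ b ∈ B, ⁅a, b⁆ ∈ Z) {g : V} (hg : g ∈ A ⊔ B ⊔ Z) :
    ∃ a ∈ A, ∃ b ∈ B, ∃ z ∈ Z, g = a * b * z := by
  have hle : A ⊔ B ⊔ Z ≤ Subgroup.closure ((A : Set V) ∪ B ∪ Z) := by
    refine sup_le (sup_le ?_ ?_) ?_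
    · exact fun x hx => Subgroup.subset_closure (Or.inl (Or.inl hx))
    · exact fun x hx => Subgroup.subset_closure (Or.inl (Or.inr hx))
    · exact fun x hx => Subgroup.subset_closure (Or.inr hx)
  have hcba : ∀ a ∈ A, ∀ b ∈ B, b * a = a * b * ⁅b⁻¹, a⁻¹⁆ := by
    intro a _ b _
    simp only [commutatorElement_def]; group
  have hc' : ∀ a ∈ A, ∀ b ∈ B, ⁅b⁻¹, a⁻¹⁆ ∈ Z := by
    intro a ha b hb
    rw [← commutatorElement_inv]
    exact inv_mem (hc _ (inv_mem ha) _ (inv_mem hb))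
  have key : ∀ x ∈ (A : Set V) ∪ B ∪ Z, ∀ g, (∃ a ∈ A, ∃ b ∈ B, ∃ z ∈ Z, g = a * b * z) →
      ∃ a ∈ A, ∃ b ∈ B, ∃ z ∈ Z, g * x = a * b * z := by
    rintro x hx _ ⟨a, ha, b, hb, z, hz, rfl⟩
    rcases hx with (hx | hx) | hx
    · refine ⟨a * x, mul_mem ha hx, b, hb, ⁅b⁻¹, x⁻¹⁆ * z, mul_mem (hc' x hx b hb) hz, ?_⟩
      have h1 := hAZ z hz x hx
      have h2 := hcba x hx b hb
      calc a * b * z * x = a * b * (z * x) := by group
        _ = a * (b * x) * z := by rw [h1]; group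
        _ = a * x * b * (⁅b⁻¹, x⁻¹⁆ * z) := by rw [h2]; group
    · refine ⟨a, ha, b * x, mul_mem hb hx, z, hz, ?_⟩
      have h1 := hBZ z hz x hx
      calc a * b * z * x = a * b * (z * x) := by group
        _ = a * (b * x) * z := by rw [h1]; group
    · exact ⟨a, ha, b, hb, z * x, mul_mem hz hx, by group⟩
  have h1 := hle hg
  refine Subgroup.closure_induction_right (p := fun g _ => ∃ a ∈ A, ∃ b ∈ B, ∃ z ∈ Z, g = a * b * z) ?_ ?_ ?_ h1
  · exact ⟨1, one_mem _, 1, one_mem _, 1, one_mem _, by group⟩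
  · intro g _ x hx ih
    exact key x hx g ih
  · intro g _ x hx ih
    refine key x⁻¹ ?_ g ih
    rcases hx with (hx | hx) | hx
    · exact Or.inl (Or.inl (A.inv_mem hx))
    · exact Or.inl (Or.inr (B.inv_mem hx))
    · exact Or.inr (Z.inv_mem hx)

theorem heis3 [Finite V] {A B Z : Subgroup V} (hA : ∀ a ∈ A, ∀ a' ∈ A, a * a' = a' * a)
    (hB : ∀ a ∈ B, ∀ a' ∈ B, a * a' = a' * a) (hZ : ∀ a ∈ Z, ∀ a' ∈ Z, a * a' = a' * a)
    (hAZ : ∀ z ∈ Z, ∀ a ∈ A, z * a = a * z) (hBZ : ∀ z ∈ Z, ∀ b ∈ B, z * b = b * z)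
    (hc : ∀ a ∈ A, ∀ b ∈ B, ⁅a, b⁆ ∈ Z) (hsA : ∀ a ∈ A, a ≠ 1 → ∀ w ∈ Z, ∃ b ∈ B, ⁅a, b⁆ = w)
    (hsB : ∀ a ∈ B, a ≠ 1 → ∀ w ∈ Z, ∃ b ∈ A, ⁅a, b⁆ = w) (hZ1 : Z ≠ ⊥) {q : ℕ} (hqZ : Nat.card Z = q)
    (hqA : q ≤ Nat.card A) (hqB : q ≤ Nat.card B) {D : Subgroup V} (hD : D ≤ A ⊔ B ⊔ Z) (hDZ : D ⊓ Z = ⊥) :
    q ^ 2 * Nat.card D ≤ Nat.card ↥(A ⊔ B ⊔ Z) := by
  have hAQ : A ≤ A ⊔ B ⊔ Z := le_sup_left.trans le_sup_left
  have hBQ : B ≤ A ⊔ B ⊔ Z := le_sup_right.trans le_sup_left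
  have hZQ : Z ≤ A ⊔ B ⊔ Z := le_sup_right
  obtain ⟨⟨w₀, hw₀⟩, hw₀1⟩ := Subgroup.ne_bot_iff_exists_ne_one.1 hZ1
  have hw₀1 : w₀ ≠ 1 := fun h => hw₀1 (Subtype.ext h)
  have hcen : ∀ z ∈ Z, ∀ g ∈ A ⊔ B ⊔ Z, z * g = g * z := by
    intro z hz g hg
    obtain ⟨a, ha, b, hb, z', hz', rfl⟩ := mem_three hAZ hBZ hc hg
    calc z * (a * b * z') = (z * a) * b * z' := by group
      _ = a * (z * b) * z' := by rw [hAZ z hz a ha]; group
      _ = a * b * (z * z') := by rw [hBZ z hz b hb]; group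
      _ = a * b * z' * z := by rw [hZ z hz z' hz']; group
  have hcomm : ∀ a ∈ A ⊔ B ⊔ Z, ∀ b ∈ A ⊔ B ⊔ Z, ⁅a, b⁆ ∈ Z := by
    have h1 := comm_mem_of_gen (Z := Z) (fun i : Fin 3 => ![A, B, Z] i) (by
      intro z hz i v hv
      fin_cases i
      · exact hAZ z hz v hv
      · exact hBZ z hz v hv
      · exact hZ z hz v hv) (by
      intro i j a ha b hb
      have e : ∀ {x y : V}, x * y = y * x → ⁅x, y⁆ ∈ Z := by
        intro x y h
        rw [commutatorElement_eq_one_iff_mul_comm.2 h]; exact one_mem _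
      fin_cases i <;> fin_cases j
      · exact e (hA a ha b hb)
      · exact hc a ha b hb
      · exact e (hAZ b hb a ha).symm
      · rw [← commutatorElement_inv]; exact inv_mem (hc b hb a ha)
      · exact e (hB a ha b hb)
      · exact e (hBZ b hb a ha).symm
      · exact e (hAZ a ha b hb)
      · exact e (hBZ a ha b hb)
      · exact e (hZ a ha b hb))
    have h2 : (⨆ i : Fin 3, ![A, B, Z] i) = A ⊔ B ⊔ Z := by
      apply le_antisymm
      · refine iSup_le fun i => ?_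
        fin_cases i
        · exact hAQ
        · exact hBQ
        · exact hZQ
      · refine sup_le (sup_le ?_ ?_) ?_
        · exact le_iSup (fun i : Fin 3 => ![A, B, Z] i) 0
        · exact le_iSup (fun i : Fin 3 => ![A, B, Z] i) 1
        · exact le_iSup (fun i : Fin 3 => ![A, B, Z] i) 2
    rw [h2] at h1
    exact h1
  have hsurj : ∀ y ∈ A ⊔ B ⊔ Z, y ∉ Z → ∀ w ∈ Z, ∃ g ∈ A ⊔ B ⊔ Z, ⁅y, g⁆ = w := by
    intro y hy hyZ w hw
    obtain ⟨a, ha, b, hb, z, hz, rfl⟩ := mem_three hAZ hBZ hc hy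
    by_cases ha1 : a = 1
    · subst ha1
      have hb1 : b ≠ 1 := by
        rintro rfl
        apply hyZ
        simpa using hz
      obtain ⟨g, hg, e⟩ := hsB b hb hb1 w hw
      refine ⟨g, hAQ hg, ?_⟩
      rw [one_mul, ← e]
      simp only [commutatorElement_def]
      have h1 := hAZ z hz g hg
      calc b * z * g * (b * z)⁻¹ * g⁻¹ = b * (z * g) * z⁻¹ * b⁻¹ * g⁻¹ := by group
        _ = b * g * b⁻¹ * g⁻¹ := by rw [h1]; group
    · obtain ⟨g, hg, e⟩ := hsA a ha ha1 w hw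
      refine ⟨g, hBQ hg, ?_⟩
      rw [← e]
      simp only [commutatorElement_def]
      have h1 := hBZ z hz g hg
      have h2 := hB b hb g hg
      calc a * b * z * g * (a * b * z)⁻¹ * g⁻¹ = a * b * (z * g) * z⁻¹ * b⁻¹ * a⁻¹ * g⁻¹ := by group
        _ = a * (b * g) * b⁻¹ * a⁻¹ * g⁻¹ := by rw [h1]; group
        _ = a * g * a⁻¹ * g⁻¹ := by rw [h2]; group
  have h1 := Cfsg.Agent.H400.HeisBound.heis_bound hZQ hcen hcomm hZ1 hsurj hD hDZ
  -- the order of the group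
  have h2 : q ^ 3 ≤ Nat.card ↥(A ⊔ B ⊔ Z) := by
    have h3 : Nat.card (A × B × Z) ≤ Nat.card ↥(A ⊔ B ⊔ Z) := by
      refine Nat.card_le_card_of_injective
        (fun x : A × B × Z => (⟨(x.1 : V) * x.2.1 * x.2.2, mul_mem (mul_mem (hAQ x.1.2) (hBQ x.2.1.2))
          (hZQ x.2.2.2)⟩ : ↥(A ⊔ B ⊔ Z))) ?_
      rintro ⟨⟨a, ha⟩, ⟨b, hb⟩, ⟨z, hz⟩⟩ ⟨⟨a', ha'⟩, ⟨b', hb'⟩, ⟨z', hz'⟩⟩ e
      have e1 : a * b * z = a' * b' * z' := congrArg Subtype.val e
      -- `a'⁻¹ a = b' z' z⁻¹ b⁻¹`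
      have e2 : a'⁻¹ * a = b' * b⁻¹ * (z' * z⁻¹) := by
        have h4 : a'⁻¹ * (a * b * z) * z⁻¹ * b⁻¹ = a'⁻¹ * (a' * b' * z') * z⁻¹ * b⁻¹ := by rw [e1]
        have h5 : a'⁻¹ * (a * b * z) * z⁻¹ * b⁻¹ = a'⁻¹ * a := by group
        have h6 : a'⁻¹ * (a' * b' * z') * z⁻¹ * b⁻¹ = b' * ((z' * z⁻¹) * b⁻¹) := by group
        rw [h5, h6, hBZ _ (mul_mem hz' (inv_mem hz)) _ (inv_mem hb)] at h4
        rw [h4]; group
      have e3 : a'⁻¹ * a = 1 := by
        by_contra hne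
        obtain ⟨g, hg, e4⟩ := hsA _ (mul_mem (inv_mem ha') ha) hne w₀ hw₀
        apply hw₀1
        rw [← e4, commutatorElement_eq_one_iff_mul_comm, e2]
        have h5 := hBZ _ (mul_mem hz' (inv_mem hz)) g hg
        have h6 := hB _ (mul_mem hb' (inv_mem hb)) g hg
        calc b' * b⁻¹ * (z' * z⁻¹) * g = b' * b⁻¹ * ((z' * z⁻¹) * g) := by group
          _ = (b' * b⁻¹ * g) * (z' * z⁻¹) := by rw [h5]; group
          _ = g * (b' * b⁻¹ * (z' * z⁻¹)) := by rw [h6]; group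
      have e4 : a = a' := (inv_mul_eq_one.1 e3).symm
      subst e4
      have e5 : b * z = b' * z' := by
        have : a * (b * z) = a * (b' * z') := by rw [← mul_assoc, ← mul_assoc]; exact e1
        exact mul_left_cancel this
      have e6 : b'⁻¹ * b = z' * z⁻¹ := by
        rw [inv_mul_eq_iff_eq_mul, ← mul_assoc, ← e5, mul_inv_cancel_right]
      have e7 : b'⁻¹ * b = 1 := by
        by_contra hne
        obtain ⟨g, hg, e8⟩ := hsB _ (mul_mem (inv_mem hb') hb) hne w₀ hw₀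
        apply hw₀1
        rw [← e8, commutatorElement_eq_one_iff_mul_comm, e6]
        exact hAZ _ (mul_mem hz' (inv_mem hz)) g hg
      have e8 : b = b' := (inv_mul_eq_one.1 e7).symm
      subst e8
      have e9 : z = z' := mul_left_cancel e5
      subst e9
      rfl
    rw [Nat.card_prod, Nat.card_prod, hqZ] at h3
    refine le_trans ?_ h3
    calc q ^ 3 = q * (q * q) := by ring
      _ ≤ Nat.card A * (Nat.card B * q) := Nat.mul_le_mul hqA (Nat.mul_le_mul_right q hqB)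
  rw [hqZ] at h1
  set c := Nat.card ↥(A ⊔ B ⊔ Z)
  set D' := Nat.card D
  by_contra hcon
  push Not at hcon
  have h3 : c * c < (q ^ 2 * D') * (q ^ 2 * D') := Nat.mul_self_lt_mul_self hcon
  have h4 : (q ^ 2 * D') * (q ^ 2 * D') = q ^ 3 * (D' * (D' * q)) := by ring
  have h5 : q ^ 3 * (D' * (D' * q)) ≤ c * c := Nat.mul_le_mul h2 h1
  omega

end Heis3

variable {l : ℕ} {W Y : Type*} [Group W] [Group Y] {M : CoxeterMatrix (Fin l)}
  {cs : CoxeterSystem M W} {A : Fin l → Fin l → ℤ} {h : IsCartan M A} {p : ℕ} {T : Subgroup Y} {n : Fin l → Y}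
  {X : (Fin l → ℤ) → Subgroup Y} {r : Fin l → ℤ}

theorem QQ_free (R : RGD cs h p T n X) [Finite W] (hr : IsRoot cs h r) (hdr : ∀ i, 0 ≤ cpr cs h (sr i) r)
    (hcen : ∀ z ∈ X r, ∀ g ∈ QQ cs h X r, z * g = g * z) {u : Y} (hu : u ∈ X (-r)) (hu1 : u ≠ 1) {y : Y}
    (hy : y ∈ QQ cs h X r) (hyu : y * u = u * y) : y = 1 := by
  obtain ⟨s, hs, a, ha, b, hb, m, hm, e⟩ := exists_mu R hr.neg hu hu1
  rw [neg_neg] at ha hb
  have h1 := hcen a ha y hy
  have h2 := hcen b hb y hy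
  have h3 : m * y = y * m := by
    rw [e]
    calc a * u * b * y = a * u * (b * y) := by group
      _ = a * (u * y) * b := by rw [h2]; group
      _ = a * y * u * b := by rw [← hyu]; group
      _ = y * (a * u * b) := by rw [h1]; group
  have h4 : m⁻¹ * y * m = y := by rw [mul_assoc, ← h3]; group
  have h5 : m⁻¹ * y * m ∈ RGD.Sup X {x | IsRoot cs h x ∧ x ≤ 0} := by
    refine conj_mem_Sup' R hm (S := Gt cs h r) (fun x hx => hx.1) ?_ hy
    intro x hx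
    have h6 := hx.1.act (s⁻¹)
    refine ⟨h6, ?_⟩
    have h7 : rep cs h s⁻¹ (-r) = r := by
      have h8 := hs (-r)
      rw [cpr_self cs h hr.neg] at h8
      have h9 : rep cs h s (-r) = r := by rw [h8, two_smul]; abel
      have h10 : rep cs h s⁻¹ (rep cs h s (-r)) = -r := rep_inv_apply cs h s (-r)
      rw [h9] at h10
      have h11 : rep cs h s⁻¹ (-r) = - rep cs h s⁻¹ r := map_neg _ _
      rw [h11, h10, neg_neg]
    have h8 : cpr cs h (rep cs h s⁻¹ x) r = - cpr cs h x r := by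
      have h9 := cpr_rep cs h s⁻¹ x hr.neg
      rw [h7, cpr_neg_right cs h x hr] at h9
      exact h9
    have h9 : ¬ 0 ≤ rep cs h s⁻¹ x := by
      intro h10
      have h11 : 0 ≤ cpr cs h (rep cs h s⁻¹ x) r := dom_nonneg (f := ell cs h hr) hdr h10
      have h12 := hx.2
      omega
    rcases h6.pos_or_neg with h10 | h10
    · exact absurd h10 h9
    · exact h10
  rw [h4] at h5
  exact inf_opp R (RGD.Sup_mono (Gt_subset_pos hr hdr) hy) h5

theorem q3_bound {R : RGD cs h p T n X} {d : Fin l → ℤ} (H : GI R d r) [Finite W] [Finite Y] {s : Fin l → ℤ}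
    (hs : s ∈ Gt cs h r) (hsr : s ≠ r) {q : ℕ} (hqr : Nat.card (X r) = q) (h1 : q ≤ Nat.card (X s))
    (h2 : q ≤ Nat.card (X (r - s))) {D : Subgroup Y} (hD : D ≤ X s ⊔ X (r - s) ⊔ X r) (hDr : D ⊓ X r = ⊥) :
    q ^ 2 * Nat.card D ≤ Nat.card ↥(X s ⊔ X (r - s) ⊔ X r) := by
  have hs' := H.sub_mem hs hsr
  have hs'r : r - s ≠ r := by
    intro h0
    exact hs.1.ne_zero (by simpa using h0)
  have hab : ∀ t ∈ Gt cs h r, t ≠ r → ∀ a ∈ X t, ∀ a' ∈ X t, a * a' = a' * a := by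
    intro t ht htr
    have h3 : cpr cs h (t + t) r = 2 := by
      rw [cpr_add cs h _ _ H.rr, H.cpr_one ht.1 htr ht.2]; norm_num
    refine H.nil t t ht.1 ht.1 ?_ ?_
    · intro h0
      have h4 : cpr cs h t r = - cpr cs h t r := by
        conv_lhs => rw [h0]
        exact cpr_neg cs h _ H.rr
      have := ht.2
      omega
    · intro h4
      have h5 : t + t = r := by
        by_contra hne
        have := H.cpr_one h4 hne (by omega)
        omega
      -- `r = 2 t`: impossible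
      have h6 : cpr cs h (t + t) t = 4 := by rw [cpr_add cs h _ _ ht.1, cpr_self cs h ht.1]; norm_num
      rw [h5] at h6
      have h7 := cpr_mul_lt (cs := cs) (h := h) H.rr ht.1 htr.symm (by
        intro h0
        have h8 := ht.2
        rw [show t = -r from by rw [h0, neg_neg], cpr_neg cs h _ H.rr, cpr_self cs h H.rr] at h8
        omega)
      rw [h6, H.cpr_one ht.1 htr ht.2] at h7
      omega
  refine heis3 (hab s hs hsr) (hab _ hs' hs'r) ?_ (fun z hz a ha => H.hs.comm_r hz hs ha)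
    (fun z hz a ha => H.hs.comm_r hz hs' ha) (H.cen s hs hsr) (H.sur s hs hsr) ?_ (X_ne_bot R H.rr) hqr h1 h2 hD hDr
  · intro a ha b hb
    exact H.hs.comm_r ha H.hs.mem_Gt hb
  · have h3 := H.sur (r - s) hs' hs'r
    rwa [sub_sub_cancel] at h3

section Act

open MulAction Cfsg.Agent.H384.TwoTrans

universe u v

variable {G : Type u} {Ω : Type v} [Group G] [MulAction G Ω] {S : Subgroup G} {T' : Subgroup ↥S} {n' : Fin l → ↥S}
  {X' : (Fin l → ℤ) → Subgroup ↥S}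

/-- **The main inequality** for a root group datum. -/
theorem rgd_main (AA : AS G Ω S) {R : RGD cs h p T' n' X'} {d : Fin l → ℤ} (H : GI R d r) [Finite W] (hp : p.Prime)
    {k : ℕ} (hn : Nat.card Ω = p ^ k) (hX : IsZ p (X' r)) {b t : Fin l → ℤ} (hb : ∃ w : W, rep cs h w r = b)
    (ht : IsRoot cs h t) (h1 : 0 < cpr cs h t b) (h2 : t ≠ b) (h3 : cpr cs h t r = 0) (h4 : cpr cs h b r = 0) {q : ℕ}
    (hqr : Nat.card (X' r) = q) (hq : ∀ s, IsRoot cs h s → q ≤ Nat.card (X' s)) {x c : ↥S} (hx : x ∈ X' r)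
    (hx1 : x ≠ 1) (hc : c ∈ X' (-r)) (hc1 : c ≠ 1) {r0 j : ℕ} (hr0 : r0.Prime) (hrp : r0 ≠ p)
    (hs : (x⁻¹ * c) ^ r0 ^ j = 1) :
    (Nat.card Ω - 1) * (Nat.card (QQ cs h X' r) * q ^ 2) ≤ Nat.card Ω * ((CC (X' r)).ncard - (Nat.card Ω - 1)) := by
  have hfS := AA.finT
  obtain ⟨w, rfl⟩ := hb
  obtain ⟨g, hg⟩ := exists_rp cs R.nsys w
  have hmemx : x ∈ CC (X' r) := ⟨hx1, 1, by rw [Cfsg.Agent.H353.TwoLong.mem_cj]; simpa using hx⟩
  have hcc : c ∈ CC (X' r) := by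
    obtain ⟨v, i, hv⟩ := H.rr
    obtain ⟨g1, hg1⟩ := exists_rp cs R.nsys (v * cs.simple i * v⁻¹)
    refine ⟨hc1, g1, ?_⟩
    rw [Cfsg.Agent.H353.TwoLong.mem_cj]
    have h5 := R.conj_mem' hg1 H.rr.neg hc
    have h6 : rep cs h (v * cs.simple i * v⁻¹)⁻¹ (-r) = r := by
      rw [hv, map_neg, mul_inv_rev, mul_inv_rev, inv_inv, cs.inv_simple, rep_mul_apply, rep_mul_apply,
        rep_inv_apply, rep_simple_sr, map_neg, neg_neg]
    rw [h6] at h5
    exact h5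
  have hxc : c ≠ x := by
    rintro rfl
    have h5 : c ∈ X' r ⊓ X' (-r) := ⟨hx, hc⟩
    rw [X_inf_X R H.rr H.rr.neg (by
      intro h0
      apply H.rr.ne_zero
      funext i
      have h7 := congrFun h0 i
      rw [Pi.neg_apply] at h7
      rw [Pi.zero_apply]
      omega)] at h5
    exact hx1 h5
  set s := rep cs h w⁻¹ t with hsdef
  have hws : rep cs h w s = t := rep_apply_inv cs h w t
  have hsG : s ∈ Gt cs h r := by
    refine ⟨ht.act _, ?_⟩
    rw [← cpr_rep cs h w s H.rr, hws]; exact h1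
  have hsr : s ≠ r := by
    rintro h0
    exact h2 (by rw [← hws, h0])
  have hs' := H.sub_mem hsG hsr
  -- the group `Q`
  have hcom : ∀ t', IsRoot cs h t' → cpr cs h t' r = 0 → ∀ a ∈ X' t', a * (x⁻¹ * c) = (x⁻¹ * c) * a := by
    intro t' ht' h0 a ha
    have e1 : a * x = x * a := by
      refine H.nil t' r ht' H.rr ?_ (H.add_not_root ht' h0.ge) a ha x hx
      rintro rfl
      rw [cpr_neg cs h _ H.rr, cpr_self cs h H.rr] at h0
      omega
    have e2 : a * c = c * a := by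
      refine H.nil t' (-r) ht' H.rr.neg ?_ ?_ a ha c hc
      · rintro h9
        rw [neg_neg] at h9
        rw [h9, cpr_self cs h H.rr] at h0
        omega
      · intro h9
        have h10 := H.add_not_root ht'.neg (by rw [cpr_neg cs h _ H.rr, h0]; norm_num)
        apply h10
        have h11 := h9.neg
        rwa [neg_add, neg_neg] at h11
    have e3 : a * x⁻¹ = x⁻¹ * a := by
      rw [eq_inv_mul_iff_mul_eq, ← mul_assoc, ← e1, mul_inv_cancel_right]
    rw [← mul_assoc, e3, mul_assoc, e2, mul_assoc]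
  have hQ : cj g (X' s ⊔ X' (r - s) ⊔ X' r) = X' t ⊔ X' (rep cs h w (r - s)) ⊔ X' (rep cs h w r) := by
    rw [cj_sup, cj_sup, R.conj_rp hg hsG.1, R.conj_rp hg hs'.1, R.conj_rp hg H.rr, hws]
  have hcj : ∀ z, z ∈ CC (X' r) → g * z * g⁻¹ ∈ CC (X' r) := fun z hz => CC_conj hz g
  refine mainX AA hp hn hX hmemx hcc hxc (Y := QQ cs h X' r) ?_ ?_ hr0 hrp hs
    (Q := X' t ⊔ X' (rep cs h w (r - s)) ⊔ X' (rep cs h w r)) ?_ ?_
  · intro y hy
    exact (H.hs.central hx hy).symm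
  · intro y hy hyc
    exact QQ_free R H.rr H.hdr (fun z hz g hg => H.hs.central hz hg) hc hc1 hy hyc
  · have h5 : X' t ⊔ X' (rep cs h w (r - s)) ⊔ X' (rep cs h w r) ≤ Subgroup.centralizer ({x⁻¹ * c} : Set ↥S) := by
      refine sup_le (sup_le ?_ ?_) ?_
      · intro a ha
        rw [Subgroup.mem_centralizer_iff]
        rintro _ rfl
        exact (hcom t ht h3 a ha).symm
      · intro a ha
        rw [Subgroup.mem_centralizer_iff]
        rintro _ rfl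
        refine (hcom _ (hs'.1.act w) ?_ a ha).symm
        rw [map_sub, hws, sub_eq_add_neg, cpr_add cs h _ _ H.rr, cpr_neg cs h _ H.rr, h3, h4]
        norm_num
      · intro a ha
        rw [Subgroup.mem_centralizer_iff]
        rintro _ rfl
        exact (hcom _ (H.rr.act w) h4 a ha).symm
    intro a ha
    exact (Subgroup.mem_centralizer_iff.1 (h5 ha) _ rfl).symm
  · intro D hD hDC
    rw [← hQ] at hD ⊢
    have h5 : cj g⁻¹ D ≤ X' s ⊔ X' (r - s) ⊔ X' r := by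
      rw [← cj_inv_cj g (X' s ⊔ X' (r - s) ⊔ X' r)]
      exact cj_mono _ hD
    have h6 : cj g⁻¹ D ⊓ X' r = ⊥ := by
      rw [Subgroup.eq_bot_iff_forall]
      rintro z ⟨hz1, hz2⟩
      by_contra hz
      have hz1 : z ∈ cj g⁻¹ D := hz1
      rw [mem_cj, inv_inv] at hz1
      refine hDC _ hz1 (hcj z ⟨hz, 1, ?_⟩)
      rw [Cfsg.Agent.H353.TwoLong.mem_cj]; simpa using hz2
    have h7 := q3_bound H hsG hsr hqr (hq _ hsG.1) (hq _ hs'.1) h5 h6
    have h8 : Nat.card ↥(cj g⁻¹ D) = Nat.card D :=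
      (Nat.card_congr (Subgroup.equivMapOfInjective _ _ (MulAut.conj g⁻¹).injective).toEquiv).symm
    have h9 : Nat.card ↥(cj g (X' s ⊔ X' (r - s) ⊔ X' r)) = Nat.card ↥(X' s ⊔ X' (r - s) ⊔ X' r) :=
      (Nat.card_congr (Subgroup.equivMapOfInjective _ _ (MulAut.conj g).injective).toEquiv).symm
    rw [h9, ← h8]
    exact h7

end Act

end Cfsg.Agent.H59.Sig
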