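import Cfsg.Agent.H59.Sig.Rgd
import Cfsg.Agent.H92.ExcSL2

/-!
# The main inequality from root tables (helper59)
-/

set_option autoImplicit false
set_option linter.unusedSectionVars false

namespace Cfsg.Agent.H59.Sig

open CoxeterSystem Cfsg.Agent.ChevalleyStructure.CoxeterGeom Cfsg.Agent.Tits.Roots Cfsg.Agent.Tits.Core
  Cfsg.Agent.Tits.Exchange Cfsg.Agent.Nodes.Reps Cfsg.Agent.Nodes.BNOf Cfsg.Agent.Nodes.StabComb
  Cfsg.Agent.Nodes.Bruhat Cfsg.Agent.Nodes.OppDec Cfsg.Agent.Nodes.PosPair Cfsg.Agent.Nodes.Coroot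
  Cfsg.Agent.KFacts.RgdPar Cfsg.Agent.KFacts.RgdSL Cfsg.Agent.KFacts.RgdTI Cfsg.Agent.Nodes.LeviDec
  Cfsg.Agent.Nodes.KindChev Cfsg.Agent.KFacts.RgdCent Cfsg.Agent.H400.TwoExc
open scoped commutatorElement

variable {l : ℕ} {W Y : Type*} [Group W] [Group Y] {M : CoxeterMatrix (Fin l)}
  {cs : CoxeterSystem M W} {A : Fin l → Fin l → ℤ} {h : IsCartan M A} {p : ℕ} {T : Subgroup Y} {n : Fin l → Y}
  {X : (Fin l → ℤ) → Subgroup Y}

/-- **the simply laced case** -/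
theorem gi_of_SL [Finite W] (R : RGD cs h p T n X) (hs : SL cs h) {d r b : Fin l → ℤ} (H : GR cs h d r)
    (hor : ∀ s, IsRoot cs h s → ∃ w : W, rep cs h w r = s) (hb : IsRoot cs h b) (hrb : cpr cs h r b = 1) :
    GI R d r where
  toGR := H
  nil x y hx hy hne hxy := by
    intro u hu v hv
    by_cases hxy' : x = y
    · subst hxy'
      have hL : ∀ a, IsRoot cs h a → Cfsg.Agent.KFacts.RgdTI.LR R a := by
        refine lr_all R hs fun a ha => ?_
        obtain ⟨w, rfl⟩ := hor a ha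
        exact ⟨rep cs h w b, hb.act w, by rw [cpr_rep cs h w _ hb]; exact hrb⟩
      exact (hL x hx).comm x hx (by rw [cpr_self cs h hx]; norm_num) u hu v hv
    · refine comm_of_not_btwn R hx hy hxy' hne ?_ hu hv
      intro z hz
      obtain ⟨h1, h2⟩ := hs.btwn hx hy hxy' hne hz
      exact hxy (isRoot_add hx hy h1)
  cen := (Hs.of_SL R hs H.rr hb hrb).cen
  sur := (Hs.of_SL R hs H.rr hb hrb).sur

section Act

open MulAction Cfsg.Agent.H384.TwoTrans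

universe u v

variable {G : Type u} {Ω : Type v} [Group G] [MulAction G Ω] {S : Subgroup G} {T' : Subgroup ↥S} {n' : Fin l → ↥S}
  {X' : (Fin l → ℤ) → Subgroup ↥S}

/-- **the main inequality** from a table -/
theorem sig_tab (AA : AS G Ω S) {R : RGD cs h p T' n' X'} [Finite W] {CA : List (List ℤ)} {dl : List ℤ}
    {P : List (List ℤ × List ℤ × ℕ)} (hA : ∀ i : Fin l, CA.getD i [] = List.ofFn (A i))
    {e : (Fin l → ℤ) → ℕ} (hck : chkT l CA dl (fun a => e (toV a)) P = true) {rl : List ℤ} {N : ℤ}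
    (hdm : domL l CA P N = [rl]) {k : ℕ} (hgt : cntF P (fun z => decide (0 < z)) rl = 2 * k + 1)
    (GG' : GI R (toV dl) (toV rl)) (hN : qf A (toV dl) (toV rl) (toV rl) = N)
    {q NN : ℕ} (hq : ∀ t, IsRoot cs h t → Nat.card (X' t) = q ^ e t) (he1 : ∀ t, IsRoot cs h t → 1 ≤ e t)
    (he : e (toV rl) = 1) (L : H353.TwoLong.LR p q k NN (X' (toV rl)))
    {pb pt pr : List ℤ × List ℤ × ℕ} (hpr : pr ∈ P) (hpr' : pr.1 = rl)
    (hpb : pb ∈ P) (hpt : pt ∈ P) (hb0 : dotL pb.2.1 rl = 0) (ht0 : dotL pt.2.1 rl = 0)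
    (hbN : dotL pb.2.1 pb.1 = N) (htb : 0 < dotL pt.2.1 pb.1) (hne : pt.1 ≠ pb.1)
    {a : ℕ} (hn : Nat.card Ω = p ^ a)
    {x c : ↥S} (hx : x ∈ X' (toV rl)) (hx1 : x ≠ 1) (hc : c ∈ X' (-toV rl)) (hc1 : c ≠ 1) {r0 j : ℕ}
    (hr0 : r0.Prime) (hrp : r0 ≠ p) (hs : (x⁻¹ * c) ^ r0 ^ j = 1) :
    (Nat.card Ω - 1) * (q ^ (2 * k + 1) * q ^ 2) ≤ Nat.card Ω * (NN - (Nat.card Ω - 1)) := by
  have hfS := AA.finT
  obtain ⟨H, F⟩ := of_chkT hA hck (e := e) (fun _ _ => rfl)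
  have hq0 : 0 < q := by
    have h1 := hq (toV rl) GG'.rr
    rw [he, pow_one] at h1
    rw [← h1]; exact Nat.card_pos
  have hQ : Nat.card (QQ cs h X' (toV rl)) = q ^ (2 * k + 1) := by
    rw [card_QQ R H GG'.hd GG'.rr (GG'.qf_pos GG'.rr) GG'.hdr e (fun t ht => hq t (H.isRoot ht)), ← hgt]
    congr 1
    have := F.cnt_eq hpr (fun z => decide (0 < z))
    rw [hpr'] at this
    exact this
  have hdom := dom_of_chk hA F hdm hN
  have hrb : IsRoot cs h (toV pb.1) := H.isRoot (List.mem_map.2 ⟨pb, hpb, rfl⟩)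
  have hrt : IsRoot cs h (toV pt.1) := H.isRoot (List.mem_map.2 ⟨pt, hpt, rfl⟩)
  have hb' : qf A (toV dl) (toV pb.1 : Fin l → ℤ) (toV rl) = 0 := by
    rw [← hpr', F.qf_eq hpb hpr, hpr']; exact hb0
  have ht' : qf A (toV dl) (toV pt.1 : Fin l → ℤ) (toV rl) = 0 := by
    rw [← hpr', F.qf_eq hpt hpr, hpr']; exact ht0
  have hcz : ∀ s, IsRoot cs h s → qf A (toV dl) s (toV rl) = 0 → cpr cs h s (toV rl) = 0 := by
    intro s hs h0
    have h1 := cpr_mul_qf cs h GG'.hd s GG'.rr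
    rw [h0, mul_zero] at h1
    exact (mul_eq_zero.1 h1).resolve_right (GG'.qf_pos GG'.rr).ne'
  have hpos : 0 < cpr cs h (toV pt.1 : Fin l → ℤ) (toV pb.1) := by
    rw [(cpr_sign GG'.hd hrb (GG'.qf_pos hrb) _).2, F.qf_eq hpt hpb]
    exact htb
  have hor : ∃ w : W, rep cs h w (toV rl) = (toV pb.1 : Fin l → ℤ) := by
    rw [orbit_iff H GG'.hd hdom hrb, F.qf_eq hpb hpb, hN]
    exact hbN
  have hVne : (toV pt.1 : Fin l → ℤ) ≠ toV pb.1 := by
    intro h0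
    apply hne
    have h1 := (F.row pt hpt).1
    have h2 := (F.row pb hpb).1
    apply List.ext_getElem (h1.trans h2.symm)
    intro i hi1 hi2
    have h3 := congrFun h0 ⟨i, by rw [← h1]; exact hi1⟩
    simpa [toV, List.getD_eq_getElem, hi1, hi2] using h3
  have key := rgd_main AA GG' L.prime hn L.cen hor hrt hpos hVne (hcz _ hrt ht') (hcz _ hrb hb') (q := q)
    (by rw [hq _ GG'.rr, he, pow_one]) (fun s hs => by
      rw [hq s hs]
      calc q = q ^ 1 := (pow_one q).symm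
        _ ≤ q ^ e s := Nat.pow_le_pow_right hq0 (he1 s hs)) hx hx1 hc hc1 hr0 hrp hs
  have hnum : (CC (X' (toV rl))).ncard = NN := L.num
  rw [hQ, hnum] at key
  exact key

end Act

end Cfsg.Agent.H59.Sig
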